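import Groth.Agent.ResProp.EF.Base
import Groth.Agent.ResProp.K56.Main
import Groth.Prelude.Def_AlgSt3
import Groth.Prelude.Def_AlgSt2

/-!
# The first and the last link: from the frozen statement S16912 to smooth groupoid rings of finite type over `ℤ`

Nodes are `def Stmt.. : Prop`; the top theorem is `Top.lean`.
-/

set_option autoImplicit false
set_option linter.dupNamespace false

open CategoryTheory CategoryTheory.Limits AlgebraicGeometry Opposite StMod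
open K784.BC K784.PM K784.Geo K741.RP

namespace EF56

universe v₁ u₁ u

/-- the frozen statement S16912 -/
def Frozen : Prop := ∀ (S : Scheme.{u}) [IsAffine S]
    (𝒳 : AlgSt.Cat S) (_ : AlgSt.IsAlgStack Scheme.fppfPrecoverage 𝒳) (_ : AlgSt.IsQuasiCompact 𝒳)
    (_ : AlgSt.RepByAlgSpWith AlgSp.IsAffineMor (FibCat.diag (FibCat.toSelf 𝒳)))
    (M : StMod.QCoh 𝒳),
    ∃ (F : StMod.QCoh 𝒳) (q : F ⟶ M),
      (∀ ξ : 𝒳.obj, FlatMod.IsFlat (F.obj.obj ξ)) ∧ StMod.Mod.IsSurj q.hom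

/-- N1: a smooth affine chart (model: `K276.DMGeo.exists_chart`, `K600.EtChart`) -/
def StmtChart : Prop := ∀ (S : Scheme.{u}) [IsAffine S] (𝒳 : AlgSt.Cat S),
    AlgSt.IsAlgStack Scheme.fppfPrecoverage 𝒳 → AlgSt.IsQuasiCompact 𝒳 →
    AlgSt.RepByAlgSpWith AlgSp.IsAffineMor (FibCat.diag (FibCat.toSelf 𝒳)) →
    ∃ x₀ : (Aff 𝒳).obj, HasProd x₀.obj ∧ ∀ D : PD (fa 𝒳) x₀, (rg (fa 𝒳) (D.π x₀)).Smooth

/-- N2: the nerve of a chart -/
def StmtNerve : Prop := ∀ {𝒞 : Type u₁} [Category.{v₁} 𝒞] (A : 𝒞ᵒᵖ ⥤ CommRingCat.{u}) (x₀ : 𝒞) (D : PD A x₀),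
    ∃ (N : NF ⥤ 𝒞), N.obj ⟨0⟩ = x₀ ∧ GR (N.op ⋙ A) ∧
      ((rg A (D.π x₀)).Smooth → (rg (N.op ⋙ A) (pr ⟨0⟩)).Smooth)

/-- N4: absolute approximation (473; 980, 0.1) -/
def StmtApprox : Prop := ∀ (A : NFᵒᵖ ⥤ CommRingCat.{u}), GR A → (rg A (pr ⟨0⟩)).Smooth →
    ∃ (B : NFᵒᵖ ⥤ CommRingCat.{u}) (j : B ⟶ A), GRZ B ∧ CartHom j

/-- N5: enough flats go up along affine morphisms -/
def StmtAffine : Prop := ∀ {A B : NFᵒᵖ ⥤ CommRingCat.{u}} (j : B ⟶ A), CartHom j → EF B → EF A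

/-- N4a: a smooth ring map is the base change of a smooth map of f.g. subrings (Mathlib: RingTheory/Smooth, Noetherian descent) -/
def StmtSmoothDesc : Prop := ∀ {A Γ : Type u} [CommRing A] [CommRing Γ] (s : A →+* Γ), s.Smooth →
    ∃ (A₀ : Subring A) (Γ₀ : Subring Γ) (h : ∀ a : A₀, s a ∈ Γ₀),
      (Int.castRingHom A₀).FiniteType ∧ ((s.comp A₀.subtype).codRestrict Γ₀ h).Smooth ∧
        IsPO A₀.subtype ((s.comp A₀.subtype).codRestrict Γ₀ h) s Γ₀.subtype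

/-- N4b: the argument of helper473. `p`, `q`, `m` : first arrow, second arrow, composite; `IsPO t s p q`. -/
def StmtCore : Prop := ∀ {A Γ Γ₂ : Type u} [CommRing A] [CommRing Γ] [CommRing Γ₂] (s t : A →+* Γ) (e : Γ →+* A)
    (ι : Γ →+* Γ) (p q m : Γ →+* Γ₂), e.comp s = RingHom.id A → e.comp t = RingHom.id A → ι.comp s = t →
    IsPO t s p q → m.comp s = p.comp s → m.comp t = q.comp t →
    ∀ (A₀ : Subring A) (Γ₀ : Subring Γ) (h : ∀ a : A₀, s a ∈ Γ₀),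
      (Int.castRingHom A₀).FiniteType → ((s.comp A₀.subtype).codRestrict Γ₀ h).Flat →
      ((s.comp A₀.subtype).codRestrict Γ₀ h).FiniteType →
      IsPO A₀.subtype ((s.comp A₀.subtype).codRestrict Γ₀ h) s Γ₀.subtype →
      ∃ B : Subring A, A₀ ≤ B ∧ (Int.castRingHom B).FiniteType ∧
        (∀ b ∈ B, t b ∈ Subring.closure (s '' B ∪ Γ₀)) ∧
        (∀ g ∈ Subring.closure (s '' B ∪ Γ₀), e g ∈ B) ∧
        (∀ g ∈ Subring.closure (s '' B ∪ Γ₀), ι g ∈ Subring.closure (s '' B ∪ Γ₀)) ∧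
        (∀ g ∈ Subring.closure (s '' B ∪ Γ₀), m g ∈
          Subring.closure (p '' (Subring.closure (s '' B ∪ Γ₀) : Subring Γ) ∪ q '' (Subring.closure (s '' B ∪ Γ₀) : Subring Γ)))

/-- N4c: the pushout of subrings. -/
def StmtSubPO : Prop := ∀ {A₀ Γ An An1 : Type u} [CommRing A₀] [CommRing Γ] [CommRing An] [CommRing An1]
    (α : A₀ →+* An) (s : A₀ →+* Γ) (β : An →+* An1) (γ : Γ →+* An1), IsPO α s β γ →
    ∀ (B₀ : Subring A₀) (ΓB : Subring Γ) (Bn : Subring An) (hs : ∀ a : B₀, s a ∈ ΓB) (hα : ∀ a : B₀, α a ∈ Bn)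
      (Bn1 : Subring An1) (hβ : ∀ a : Bn, β a ∈ Bn1) (hγ : ∀ g : ΓB, γ g ∈ Bn1),
      Bn1 ≤ Subring.closure (β '' Bn ∪ γ '' ΓB) →
      ((s.comp B₀.subtype).codRestrict ΓB hs).Flat →
      IsPO B₀.subtype ((s.comp B₀.subtype).codRestrict ΓB hs) s ΓB.subtype →
      IsPO ((α.comp B₀.subtype).codRestrict Bn hα) ((s.comp B₀.subtype).codRestrict ΓB hs)
        ((β.comp Bn.subtype).codRestrict Bn1 hβ) ((γ.comp ΓB.subtype).codRestrict Bn1 hγ)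

end EF56
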