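import Groth.Agent.ResProp.EF.X56.Ext
import Groth.Agent.ResProp.EF.X56.Iface
import Groth.Agent.ResProp.EF.K738.Chart

/-!
# The first and the last link: the frozen statement S16912 follows from `EF` for smooth groupoid rings of finite type over `ℤ`
-/

set_option autoImplicit false
set_option linter.dupNamespace false
set_option backward.isDefEq.respectTransparency false
set_option backward.isDefEq.respectTransparency.types false

open CategoryTheory CategoryTheory.Limits AlgebraicGeometry Opposite StMod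

namespace EF56

open K784.BC K784.PM K741.RP K784.Geo K56.RP K741

universe u

theorem stmtChart : StmtChart.{u} := fun S _ 𝒳 h1 h2 h3 => by
  obtain ⟨x₀, H, hs⟩ := Groth.Agent.ResProp.EF.K738.exists_chart h1 h2 h3
  exact ⟨x₀, H, fun D => hs D x₀⟩

/-- **F1**: the frozen statement from enough flats for all smooth groupoid rings -/
theorem frozen_of_smooth (h : ∀ A : NFᵒᵖ ⥤ CommRingCat.{u}, GR A → (rg A (pr ⟨0⟩)).Smooth → EF A) : Frozen.{u} := by
  intro S _ 𝒳 h𝒳 hqc hΔ M
  obtain ⟨x₀, H, hs⟩ := stmtChart S 𝒳 h𝒳 hqc hΔ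
  obtain ⟨D⟩ := nonempty_pd h𝒳.isStack.1 H
  refine Nv.exists_flat_of_EF h𝒳.isStack.1 H D (h _ (Nv.gr D) ?_) M
  change (rg (fa 𝒳) ((Nv.nerve D).map (pr ⟨0⟩))).Smooth
  rw [Nv.nerve_pr]
  exact hs D

/-- **F1 + F2** -/
theorem frozen_of_GRZ (h1 : StmtApprox.{u}) (h2 : StmtAffine.{u}) (h : ∀ A : NFᵒᵖ ⥤ CommRingCat.{u}, GRZ A → EF A) :
    Frozen.{u} := frozen_of_smooth fun A hA hs => by
  obtain ⟨B, j, hB, hj⟩ := h1 A hA hs
  exact h2 j hj (h B hB)

end EF56
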