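import Groth.Agent.ResProp.EF.X56.Iface

/-!
# Enough flats go up along affine morphisms (node N5 of helper56's interface)
-/

set_option autoImplicit false
set_option linter.dupNamespace false
set_option linter.style.haveILetI false

open CategoryTheory Opposite
open scoped TensorProduct

namespace NAffine784

open K784.BC K784.PM K741.RP EF56

universe w u

section

variable {𝒞 : Type*} [Category 𝒞] {A B : 𝒞ᵒᵖ ⥤ CommRingCat.{u}} (j : B ⟶ A)

/-- the component of `j` as a ring homomorphism. -/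
abbrev jh (z : 𝒞) : B.obj (op z) →+* A.obj (op z) := (j.app (op z)).hom

theorem jh_comm {x z : 𝒞} (φ : x ⟶ z) : (jh j x).comp (rg B φ) = (rg A φ).comp (jh j z) :=
  congrArg CommRingCat.Hom.hom (j.naturality φ.op)

theorem jh_comm_apply {x z : 𝒞} (φ : x ⟶ z) (r : B.obj (op z)) : jh j x (rg B φ r) = rg A φ (jh j z r) :=
  RingHom.congr_fun (jh_comm j φ) r

/-- restriction of scalars along `j`. -/
def res (M : PM.{w} A) : PM.{w} B where
  obj z := M.obj z
  grp z := M.grp z
  mod z := Module.compHom (M.obj z) (jh j z)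
  map φ := M.map φ
  map_smul {x z} φ r m := by
    have h := M.map_smul φ (jh j z r) m
    rw [← jh_comm_apply j φ r] at h
    exact h
  map_id := M.map_id
  map_comp := M.map_comp

theorem res_cart {M : PM.{w} A} (hM : M.Cart)
    (hj : ∀ {x z : 𝒞} (φ : x ⟶ z), IsPO (rg B φ) (jh j z) (jh j x) (rg A φ)) : (res j M).Cart := fun x z φ => by
  letI i1 : Module (B.obj (op z)) (M.obj z) := Module.compHom (M.obj z) (jh j z)
  letI i2 : Module (B.obj (op x)) (M.obj x) := Module.compHom (M.obj x) (jh j x)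
  have h : IsBC (rg B φ) (M.map φ) := IsBC.of_po (hj φ) (fun _ _ => rfl) (fun _ _ => rfl) (hM φ)
  exact h

/-- the objects of the base change. -/
abbrev bcO (F : PM.{w} B) (z : 𝒞) : Type (max u w) :=
  letI := (jh j z).toAlgebra
  A.obj (op z) ⊗[B.obj (op z)] F.obj z

/-- the unit. -/
noncomputable abbrev mkh (F : PM.{w} B) (z : 𝒞) : F.obj z →+ bcO j F z :=
  letI := (jh j z).toAlgebra
  (TensorProduct.mk (B.obj (op z)) (A.obj (op z)) (F.obj z) 1).toAddMonoidHom

theorem isBC_mkh (F : PM.{w} B) (z : 𝒞) : IsBC (jh j z) (mkh j F z) := isBC_mk (jh j z) (F.obj z)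

theorem exists_bcmap (F : PM.{w} B) {x z : 𝒞} (φ : x ⟶ z) : ∃ f : bcO j F z →+ bcO j F x,
    (∀ (r : A.obj (op z)) (t : bcO j F z), f (r • t) = rg A φ r • f t) ∧
      ∀ e, f (mkh j F z e) = mkh j F x (F.map φ e) := by
  letI : Module (A.obj (op z)) (bcO j F x) := Module.compHom (bcO j F x) (rg A φ)
  obtain ⟨g, hg, -⟩ := (isBC_mkh j F z).existsUnique_lift (Q := bcO j F x) ((mkh j F x).comp (F.map φ)) (fun r e => by
    change mkh j F x (F.map φ (r • e)) = rg A φ (jh j z r) • mkh j F x (F.map φ e)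
    rw [F.map_smul, (isBC_mkh j F x).map_smul, jh_comm_apply])
  exact ⟨g.toAddMonoidHom, fun r t => g.map_smul r t, hg⟩

/-- the restriction maps of the base change. -/
noncomputable def bcmap (F : PM.{w} B) {x z : 𝒞} (φ : x ⟶ z) : bcO j F z →+ bcO j F x := (exists_bcmap j F φ).choose

theorem bcmap_smul (F : PM.{w} B) {x z : 𝒞} (φ : x ⟶ z) (r : A.obj (op z)) (t : bcO j F z) :
    bcmap j F φ (r • t) = rg A φ r • bcmap j F φ t := (exists_bcmap j F φ).choose_spec.1 r t

theorem bcmap_mkh (F : PM.{w} B) {x z : 𝒞} (φ : x ⟶ z) (e : F.obj z) :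
    bcmap j F φ (mkh j F z e) = mkh j F x (F.map φ e) := (exists_bcmap j F φ).choose_spec.2 e

/-- the base change of a presheaf of modules along `j`. -/
noncomputable def bc (F : PM.{w} B) : PM.{max u w} A where
  obj z := bcO j F z
  grp z := by dsimp only [bcO]; infer_instance
  mod z := by dsimp only [bcO]; infer_instance
  map φ := bcmap j F φ
  map_smul φ r t := bcmap_smul j F φ r t
  map_id z t := by
    induction t using (isBC_mkh j F z).induction with
    | zero => rw [map_zero]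
    | map e => rw [bcmap_mkh, F.map_id]
    | smul r t ht => rw [bcmap_smul, ht, rg_id]; rfl
    | add t t' ht ht' => rw [map_add, ht, ht']
  map_comp {y x z} ψ φ t := by
    induction t using (isBC_mkh j F z).induction with
    | zero => rw [map_zero, map_zero, map_zero]
    | map e => rw [bcmap_mkh, bcmap_mkh, bcmap_mkh, F.map_comp]
    | smul r t ht => rw [bcmap_smul, bcmap_smul, bcmap_smul, ht, rg_comp_apply]
    | add t t' ht ht' => rw [map_add, ht, ht', map_add, map_add]

theorem bc_cart {F : PM.{w} B} (hF : F.Cart) : (bc j F).Cart := fun x z φ => by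
  change IsBC (rg A φ) (bcmap j F φ)
  refine IsBC.of_comp (isBC_mkh j F z) (bcmap_smul j F φ) ?_
  have h1 := (hF φ).comp (isBC_mkh j F x)
  rw [jh_comm] at h1
  have h2 : (bcmap j F φ).comp (mkh j F z) = (mkh j F x).comp (F.map φ) := AddMonoidHom.ext fun e => bcmap_mkh j F φ e
  rw [h2]
  exact h1

theorem bc_flat {F : PM.{w} B} {z : 𝒞} (h : Module.Flat (B.obj (op z)) (F.obj z)) :
    Module.Flat (A.obj (op z)) ((bc j F).obj z) := by
  letI := (jh j z).toAlgebra
  exact Module.Flat.baseChange (B.obj (op z)) (A.obj (op z)) (F.obj z)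

theorem exists_adj (F : PM.{w} B) (M : PM.{w} A) (q : ∀ a, F.obj a →ₗ[B.obj (op a)] (res j M).obj a)
    (hq : ∀ ⦃a b : 𝒞⦄ (φ : a ⟶ b) (e : F.obj b), q a (F.map φ e) = (res j M).map φ (q b e)) :
    ∃ q' : ∀ a, (bc j F).obj a →ₗ[A.obj (op a)] M.obj a, (∀ a e, q' a (mkh j F a e) = q a e) ∧
      ∀ ⦃a b : 𝒞⦄ (φ : a ⟶ b) (e : (bc j F).obj b), q' a ((bc j F).map φ e) = M.map φ (q' b e) := by
  have h : ∀ a, ∃ q' : bcO j F a →ₗ[A.obj (op a)] M.obj a, ∀ e, q' (mkh j F a e) = q a e := fun a => by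
    obtain ⟨g, hg, -⟩ := (isBC_mkh j F a).existsUnique_lift (Q := M.obj a) (q a).toAddMonoidHom
      (fun r e => (q a).map_smul r e)
    exact ⟨g, hg⟩
  choose q' hq' using h
  refine ⟨q', hq', fun a b φ e => ?_⟩
  change q' a (bcmap j F φ e) = M.map φ (q' b e)
  induction e using (isBC_mkh j F b).induction with
  | zero => rw [map_zero, map_zero, map_zero, map_zero]
  | map e => rw [bcmap_mkh, hq', hq', hq]; rfl
  | smul r t ht => rw [bcmap_smul, map_smul, map_smul, M.map_smul, ht]
  | add t t' ht ht' => rw [map_add, map_add, map_add, map_add, ht, ht']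

end

/-- **enough flats go up along affine morphisms**. -/
theorem stmtAffine : StmtAffine.{u} := by
  intro A B j hj hB M hM
  obtain ⟨F, q, hF, hq, hfl, hs⟩ := hB (res j M) (res_cart j hM (fun φ => hj φ))
  obtain ⟨q', h1, h2⟩ := exists_adj j F M q hq
  refine ⟨bc j F, q', bc_cart j hF, h2, bc_flat j hfl, fun m => ?_⟩
  obtain ⟨e, he⟩ := hs m
  exact ⟨mkh j F ⟨0⟩ e, (h1 _ e).trans he⟩

end NAffine784
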