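import Groth.Agent.ResProp.EF.X56.Top
import Groth.Agent.ResProp.EF.X56.NAffine_784
import Groth.Agent.ResProp.EF.Grpd330.ApproxThm

/-!
# The first and the last link, closed: S16912 follows from `EF A` for all smooth groupoid rings of finite type over `ℤ`
-/

set_option autoImplicit false

open CategoryTheory

universe u

namespace EF56

/-- `StmtApprox` is proved. -/
theorem stmtApprox : StmtApprox.{u} := ResProp.EF.Grpd330.stmtApprox

/-- The frozen statement follows from `∀ A, GRZ A → EF A`. -/
theorem frozen_of_all_GRZ (h : ∀ A : NFᵒᵖ ⥤ CommRingCat.{u}, GRZ A → EF A) : Frozen.{u} :=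
  frozen_of_GRZ stmtApprox NAffine784.stmtAffine h

end EF56
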