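import Groth.Agent.ResProp.EF.X56.Iface
import Mathlib.RingTheory.Flat.Basic
import Mathlib.RingTheory.TensorProduct.Maps

/-!
# `StmtSubPO`: the pushout of subrings
-/

set_option autoImplicit false
set_option linter.dupNamespace false
set_option linter.style.haveILetI false

open CategoryTheory CategoryTheory.Limits Opposite TensorProduct
open K784.BC

namespace NSubPO299

universe u

/-- A pushout square from the bijectivity of the tensor product map. -/
theorem isPO_of_bijective {R A B C : Type u} [CommRing R] [CommRing A] [CommRing B] [CommRing C] [Algebra R A] [Algebra R B]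
    [Algebra R C] (f : A →ₐ[R] C) (g : B →ₐ[R] C)
    (h : Function.Bijective (Algebra.TensorProduct.productMap f g)) :
    IsPO (algebraMap R A) (algebraMap R B) f.toRingHom g.toRingHom := by
  let e : A ⊗[R] B ≃+* C := RingEquiv.ofBijective (Algebra.TensorProduct.productMap f g).toRingHom h
  refine (CommRingCat.isPushout_tensorProduct R A B).of_iso (Iso.refl _) (Iso.refl _) (Iso.refl _) e.toCommRingCatIso ?_ ?_ ?_ ?_
  · simp
  · simp
  · ext a
    simp [e]
  · ext a
    simp [e]

/-- The tensor product map of a pushout square is bijective. -/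
theorem bijective_of_isPO {R A B C : Type u} [CommRing R] [CommRing A] [CommRing B] [CommRing C] [Algebra R A] [Algebra R B]
    [Algebra R C] (f : A →ₐ[R] C) (g : B →ₐ[R] C)
    (h : IsPO (algebraMap R A) (algebraMap R B) f.toRingHom g.toRingHom) :
    Function.Bijective (Algebra.TensorProduct.productMap f g) := by
  let i := (CommRingCat.isPushout_tensorProduct R A B).isoIsPushout _ _ h
  have hi : i.hom.hom = (Algebra.TensorProduct.productMap f g).toRingHom := by
    have h1 : CommRingCat.ofHom (Algebra.TensorProduct.productMap f g).toRingHom = i.hom := by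
      apply (CommRingCat.isPushout_tensorProduct R A B).hom_ext
      · refine Eq.trans ?_ (IsPushout.inl_isoIsPushout_hom _ _ (CommRingCat.isPushout_tensorProduct R A B) h).symm
        ext a
        simp
      · refine Eq.trans ?_ (IsPushout.inr_isoIsPushout_hom _ _ (CommRingCat.isPushout_tensorProduct R A B) h).symm
        ext a
        simp
    rw [← h1]
    rfl
  have h2 : Function.Bijective i.hom.hom := ConcreteCategory.bijective_of_isIso i.hom
  rw [hi] at h2
  exact h2

theorem stmtSubPO : EF56.StmtSubPO.{u} := by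
  intro A₀ Γ An An1 _ _ _ _ α s β γ h B₀ ΓB Bn hs hα Bn1 hβ hγ hle hflat h2
  let s' : B₀ →+* ΓB := (s.comp B₀.subtype).codRestrict ΓB hs
  let α' : B₀ →+* Bn := (α.comp B₀.subtype).codRestrict Bn hα
  let β' : Bn →+* Bn1 := (β.comp Bn.subtype).codRestrict Bn1 hβ
  let γ' : ΓB →+* Bn1 := (γ.comp ΓB.subtype).codRestrict Bn1 hγ
  letI : Algebra B₀ ΓB := s'.toAlgebra
  letI : Algebra B₀ Bn := α'.toAlgebra
  letI : Algebra B₀ An := (α.comp B₀.subtype).toAlgebra
  letI : Algebra B₀ An1 := (β.comp (α.comp B₀.subtype)).toAlgebra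
  have hcomm : ∀ b : A₀, β (α b) = γ (s b) := fun b => congr($(h.comm) b)
  have hB : ∀ b : B₀, (β.comp (α.comp B₀.subtype)) b ∈ Bn1 := fun b => hβ (α' b)
  letI : Algebra B₀ Bn1 := ((β.comp (α.comp B₀.subtype)).codRestrict Bn1 hB).toAlgebra
  let f : Bn →ₐ[B₀] Bn1 := { β' with commutes' := fun b => rfl }
  let g : ΓB →ₐ[B₀] Bn1 := { γ' with commutes' := fun b => Subtype.ext (hcomm b).symm }
  let F : An →ₐ[B₀] An1 := { β with commutes' := fun b => rfl }
  let G : ΓB →ₐ[B₀] An1 := { (γ.comp ΓB.subtype) with commutes' := fun b => (hcomm b).symm }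
  have hpo : IsPO (algebraMap B₀ An) (algebraMap B₀ ΓB) F.toRingHom G.toRingHom := by
    exact IsPushout.paste_horiz h2 h
  have hbij := bijective_of_isPO F G hpo
  have hfl : Module.Flat B₀ ΓB := hflat
  let inc : Bn →ₐ[B₀] An := { Bn.subtype with commutes' := fun b => rfl }
  let inc1 : Bn1 →ₐ[B₀] An1 := { Bn1.subtype with commutes' := fun b => rfl }
  have hinj : Function.Injective (Algebra.TensorProduct.productMap f g) := by
    have e1 : (inc1.comp (Algebra.TensorProduct.productMap f g)) =
        (Algebra.TensorProduct.productMap F G).comp (Algebra.TensorProduct.map inc (AlgHom.id B₀ ΓB)) := by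
      ext x
      · simp [inc1, f, F, inc]; rfl
      · simp [inc1, g, G]; rfl
    have e2 : Function.Injective (Algebra.TensorProduct.map inc (AlgHom.id B₀ ΓB)) := by
      have := Module.Flat.rTensor_preserves_injective_linearMap (M := ΓB) inc.toLinearMap Subtype.val_injective
      exact this
    have e3 : Function.Injective (inc1.comp (Algebra.TensorProduct.productMap f g)) := by
      rw [e1]
      exact hbij.1.comp e2
    exact Function.Injective.of_comp (f := inc1) e3
  have hsurj : Function.Surjective (Algebra.TensorProduct.productMap f g) := by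
    have h3 : (Subring.closure (β '' Bn ∪ γ '' ΓB)) ≤ (inc1.comp (Algebra.TensorProduct.productMap f g)).toRingHom.range := by
      rw [Subring.closure_le]
      rintro _ (⟨b, hb, rfl⟩ | ⟨b, hb, rfl⟩)
      · exact ⟨(⟨b, hb⟩ : Bn) ⊗ₜ 1, by simp [inc1, f]; rfl⟩
      · exact ⟨1 ⊗ₜ (⟨b, hb⟩ : ΓB), by simp [inc1, g]; rfl⟩
    intro x
    obtain ⟨y, hy⟩ := h3 (hle x.2)
    exact ⟨y, Subtype.ext hy⟩
  have := isPO_of_bijective f g ⟨hinj, hsurj⟩
  exact this

end NSubPO299
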