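import Groth.Agent.ResProp.EF.X56.Iface
import Groth.Agent.ResProp.EF.Grpd330.SmoothDesc

/-!
# Nodes N4a, N4b of the first link
-/

set_option autoImplicit false

universe u

namespace EF56

theorem stmtSmoothDesc : StmtSmoothDesc.{u} := fun s hs => ResProp.EF.Grpd330.smoothDesc s hs

theorem stmtCore : StmtCore.{u} := fun s t e ι p q m h1 h2 h3 h4 h5 h6 A₀ Γ₀ h h7 h8 h9 h10 =>
  ResProp.EF.Grpd330.core s t e ι p q m h1 h2 h3 h4 h5 h6 A₀ Γ₀ h h7 h8 h9 h10

end EF56
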