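import Groth.Agent.ResProp.EF.K276.HitEF
import Groth.Agent.ResProp.EF.X56.Final_330

/-!
# The chart of a groupoid ring in the form `[Fact (GR A)]` (instance `K741.abelian` on `Comod A`)

`K276.chart h` is a chart with respect to the abelian structure `(comodPkg h).ab`; it is definitionally the instance of
`K741.ComodAb`.  `chartF` is the same chart with the instance; `frozen_of_chartF` the end of the chain with no other
hypothesis.
-/

set_option autoImplicit false
set_option linter.dupNamespace false
set_option linter.style.haveILetI false

open CategoryTheory CategoryTheory.Limits Opposite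

namespace EF56

open Groth.Agent.ResProp.EF

universe u

variable (A : NFᵒᵖ ⥤ CommRingCat.{u}) [hA : Fact (GR A)]

/-- the chart of a groupoid ring -/
noncomputable def chartF : K294.Chart (A.obj (op ⟨0⟩)) (Comod A) := K276.chart hA.out

theorem chartF_us : (chartF A).us = vst A := rfl

variable {A}

theorem ef_of_hitF (h : (chartF A).Hit) : EF A := K276.ef_of_hit hA.out h

/-- **the end of the chain** -/
theorem frozen_of_chartF (h : ∀ (A : NFᵒᵖ ⥤ CommRingCat.{u}) [Fact (GR A)], GRZ A → (chartF A).Hit) : Frozen.{u} :=
  frozen_of_all_GRZ fun A hA => by
    haveI : Fact (GR A) := ⟨hA.toGR⟩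
    exact ef_of_hitF (h A hA)

end EF56
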