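import Groth.Agent.ResProp.K741.PDPush
import Mathlib.RingTheory.RingHom.Smooth
import Mathlib.RingTheory.RingHom.FiniteType
import Mathlib.RingTheory.RingHom.FinitePresentation

/-!
# Groupoid rings as functors on the nonempty finite powers

`NF`: the object `⟨n⟩` stands for the power `U^(n+1)` of a chart, an arrow `a ⟶ b` (a morphism `U^(a+1) ⟶ U^(b+1)`) is a map
`Fin (b+1) → Fin (a+1)`.  A *groupoid ring* is `A : NFᵒᵖ ⥤ CommRingCat` with `GR A` (all projections faithfully flat, all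
squares cocartesian); `R = A⟨0⟩`, `Γ = A⟨1⟩`, `s = rg A (pr 0)`, `t = rg A (lst 0)`.  Quasi-coherent sheaves on the stack are the
cartesian presheaves of modules `F : PM A`, `F.Cart`.  `EF A` : enough flats.
-/

set_option autoImplicit false
set_option linter.dupNamespace false

open CategoryTheory Opposite

namespace EF56

open K784.BC K784.PM K741.RP

universe w v₁ u₁ u

/-- nonempty finite powers -/
structure NF where
  n : ℕ

instance : Category.{0} NF where
  Hom a b := Fin (b.n + 1) → Fin (a.n + 1)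
  id a := fun i => i
  comp f g := fun i => f (g i)

theorem nf_comp {a b c : NF} (f : a ⟶ b) (g : b ⟶ c) (i : Fin (c.n + 1)) :
    (f ≫ g : a ⟶ c) i = (show Fin (b.n + 1) → Fin (a.n + 1) from f) ((show Fin (c.n + 1) → Fin (b.n + 1) from g) i) := rfl

/-- the projection forgetting the last factor -/
def pr (a : NF) : (⟨a.n + 1⟩ : NF) ⟶ a := (Fin.castSucc : Fin (a.n + 1) → Fin (a.n + 2))

/-- the last factor -/
def lst (a : NF) : (⟨a.n + 1⟩ : NF) ⟶ ⟨0⟩ := (fun _ => Fin.last (a.n + 1) : Fin 1 → Fin (a.n + 2))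

/-- the `i`-th factor -/
def pt (a : NF) (i : Fin (a.n + 1)) : a ⟶ ⟨0⟩ := (fun _ => i : Fin 1 → Fin (a.n + 1))

/-- adding a factor -/
def wmap {a b : NF} (φ : a ⟶ b) : (⟨a.n + 1⟩ : NF) ⟶ ⟨b.n + 1⟩ :=
  (Fin.lastCases (Fin.last (a.n + 1)) (fun i => ((show Fin (b.n + 1) → Fin (a.n + 1) from φ) i).castSucc) :
    Fin (b.n + 2) → Fin (a.n + 2))

variable (A : NFᵒᵖ ⥤ CommRingCat.{u})

/-- a flat groupoid ring (flat Hopf algebroid) -/
structure GR : Prop where
  ff : ∀ a : NF, FF A (pr a)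
  po : ∀ {a b : NF} (φ : a ⟶ b), IsPO (rg A φ) (rg A (pr b)) (rg A (pr a)) (rg A (wmap φ))

/-- the lift -/
def lft {y z : NF} (f : y ⟶ z) (g : y ⟶ ⟨0⟩) : y ⟶ ⟨z.n + 1⟩ :=
  (Fin.lastCases ((show Fin 1 → Fin (y.n + 1) from g) 0) (fun i => (show Fin (z.n + 1) → Fin (y.n + 1) from f) i) :
    Fin (z.n + 2) → Fin (y.n + 1))

theorem lft_pr {y z : NF} (f : y ⟶ z) (g : y ⟶ ⟨0⟩) : lft f g ≫ pr z = f := by
  funext i
  exact Fin.lastCases_castSucc (motive := fun _ => Fin (y.n + 1)) _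

theorem lft_lst {y z : NF} (f : y ⟶ z) (g : y ⟶ ⟨0⟩) : lft f g ≫ lst z = g := by
  funext i
  have : i = 0 := Subsingleton.elim (α := Fin 1) _ _
  subst this
  exact Fin.lastCases_last (motive := fun _ => Fin (y.n + 1))

theorem nf_ext {y z : NF} {l l' : y ⟶ ⟨z.n + 1⟩} (h1 : l ≫ pr z = l' ≫ pr z) (h2 : l ≫ lst z = l' ≫ lst z) : l = l' := by
  funext i
  refine Fin.lastCases ?_ (fun j => ?_) i
  · exact congrFun h2 0
  · exact congrFun h1 j

theorem wmap_pr {a b : NF} (φ : a ⟶ b) : wmap φ ≫ pr b = pr a ≫ φ := by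
  funext i
  exact Fin.lastCases_castSucc (motive := fun _ => Fin (a.n + 2)) _

theorem wmap_lst {a b : NF} (φ : a ⟶ b) : wmap φ ≫ lst b = lst a := by
  funext i
  exact Fin.lastCases_last (motive := fun _ => Fin (a.n + 2))

variable {A}

/-- a groupoid ring has products with `⟨0⟩`: all of `K741.RP.PD` (push, quot, subN, frelPM, ..) applies -/
def GR.pd (h : GR A) : PD A (⟨0⟩ : NF) where
  w a := ⟨a.n + 1⟩
  π a := pr a
  b a := lst a
  lift f g := lft f g
  lift_π f g := lft_pr f g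
  lift_b f g := lft_lst f g
  ext h1 h2 := nf_ext h1 h2
  ff a := h.ff a
  po {x z} φ ψ h1 h2 := by
    have : ψ = wmap φ := nf_ext (h1.trans (wmap_pr φ).symm) (h2.trans (wmap_lst φ).symm)
    rw [this]
    exact h.po φ

variable (A) in
/-- **enough flats** for a groupoid ring -/
def EF : Prop := ∀ M : PM.{u} A, M.Cart → ∃ (F : PM.{u} A) (q : ∀ a, F.obj a →ₗ[A.obj (op a)] M.obj a),
  F.Cart ∧ (∀ ⦃a b : NF⦄ (φ : a ⟶ b) (e : F.obj b), q a (F.map φ e) = M.map φ (q b e)) ∧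
    Module.Flat (A.obj (op ⟨0⟩)) (F.obj ⟨0⟩) ∧ Function.Surjective (q ⟨0⟩)

variable (A) in
/-- a smooth groupoid ring of finite type over `ℤ` -/
structure GRZ : Prop extends GR A where
  smooth : (rg A (pr ⟨0⟩)).Smooth
  ft : (Int.castRingHom (A.obj (op ⟨0⟩))).FiniteType

end EF56
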