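import Groth.Agent.ResProp.EF.ArchTop
import Groth.Agent.ResProp.EF.K935.Point
import Groth.Agent.ResProp.EF.K454.TorFlat

/-!
# `StmtC3` of `ArchTop.lean`
-/

set_option autoImplicit false
set_option backward.isDefEq.respectTransparency false

universe w v u

open CategoryTheory CategoryTheory.Limits Opposite HomologicalComplex

namespace EF56

open Groth.Agent.ResProp.EF Groth.Agent.ResProp.EF.K294 Groth.Agent.ResProp.EF.Arch

variable {R : Type u} [CommRing R]

/-- a flat resolution of `M` in the sense of `Arch.ResHit` maps quasi-isomorphically to `M` -/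
theorem exists_eps (N : CM R) (hN : IsTest N) (M : ModuleCat.{u} R) (e : N.homology 0 ≅ M) :
    ∃ ε : N ⟶ (single (ModuleCat.{u} R) (ComplexShape.up ℤ) 0).obj M, QuasiIso ε := by
  obtain ⟨M', π, hπ⟩ := K454.exists_single N hN
  have i1 : IsIso (homologyMap π 0) := inferInstance
  let i : M' ≅ M := (singleObjHomologySelfIso (ComplexShape.up ℤ) 0 M').symm ≪≫ (asIso (homologyMap π 0)).symm ≪≫ e
  exact ⟨π ≫ (single (ModuleCat.{u} R) (ComplexShape.up ℤ) 0).map i.hom, inferInstance⟩

variable {C : Type v} [Category.{w} C] [Abelian C] (X : Chart R C)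

theorem resHit_of_hitCx (x : PrimeSpectrum R) (K : CM R) (h : HitCx X x K) : ResHit X x := by
  intro N hN ⟨e⟩ Y hY y
  obtain ⟨a, b, ha, hb⟩ := h.bdd
  obtain ⟨i, hi⟩ := h.nz
  obtain ⟨ε, hε⟩ := exists_eps N hN _ e
  have := hN.le
  obtain ⟨T, p, t, hT, ht⟩ := K935.exists_perfT_point K b h.flat h.hit (k := x.asIdeal.ResidueField) i hi N 0 hN.flat ε 0
    Y hY y
  exact ⟨T, p, t, hT, ht⟩

/-- **F4, C3** -/
theorem stmtC3 : StmtC3.{u} := fun _ _ X _ _ x K h => resHit_of_hitCx X x K h

end EF56
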