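import Groth.Agent.ResProp.EF.K894.C3
import Groth.Agent.ResProp.EF.K926.Res
import Groth.Agent.ResProp.EF.K353.Defs

/-!
# Multiplication by integers on `H^i(K ⊗ L)`, `L` a flat resolution of a module
-/

set_option autoImplicit false
set_option backward.defeqAttrib.useBackward true
set_option backward.isDefEq.respectTransparency false

universe u

open CategoryTheory CategoryTheory.Limits HomologicalComplex

namespace EF56

open Groth.Agent.ResProp.EF Groth.Agent.ResProp.EF.K294 Groth.Agent.ResProp.EF.K894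
open Groth.Agent.PerfB.RingKFlat Groth.Agent.Dcoh.KFlatAbs

variable {R : Type u} [CommRing R]

/-- `H^i(K ⊗ L) ≅ H^i(K' ⊗ M[0])` -/
theorem exists_homology_iso (K L : CM R) (hL : IsTest L) (M : ModuleCat.{u} R)
    (ε : L ⟶ (single (ModuleCat.{u} R) (ComplexShape.up ℤ) 0).obj M) [QuasiIso ε] (i : ℤ) :
    ∃ K' : CM R, Nonempty ((tens K L).homology i ≅
      (((TR R).map₂CochainComplex.obj K').obj ((single (ModuleCat.{u} R) (ComplexShape.up ℤ) 0).obj M)).homology i) := by
  obtain ⟨K', q, hq, hK'⟩ := exists_kfl_left K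
  have := hL.le
  have hkL : KFl (TR R) L := kfl_right L 0 hL.flat
  have h1 : QuasiIso (((TR R).map₂CochainComplex.map q).app L) := hkL.quasiIso q
  have h2 : QuasiIso (((TR R).map₂CochainComplex.obj K').map ε) := quasiIso_left hK' ε
  exact ⟨K', ⟨(asIso (homologyMap (((TR R).map₂CochainComplex.map q).app L) i)).symm ≪≫
    asIso (homologyMap (((TR R).map₂CochainComplex.obj K').map ε) i)⟩⟩

/-- the functor `M ↦ H^i(K ⊗ M[0])` -/
noncomputable abbrev hS (K : CM R) (i : ℤ) : ModuleCat.{u} R ⥤ ModuleCat.{u} R :=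
  single (ModuleCat.{u} R) (ComplexShape.up ℤ) 0 ⋙ (TR R).map₂CochainComplex.obj K ⋙
    homologyFunctor (ModuleCat.{u} R) (ComplexShape.up ℤ) i

theorem hS_smul (K : CM R) (i : ℤ) (M : ModuleCat.{u} R) (n : ℤ) :
    (hS K i).map (n • 𝟙 M) = n • 𝟙 ((hS K i).obj M) := by
  rw [Functor.map_zsmul, CategoryTheory.Functor.map_id]

theorem smul_eq_zero_of (K L : CM R) (hL : IsTest L) (M : ModuleCat.{u} R)
    (ε : L ⟶ (single (ModuleCat.{u} R) (ComplexShape.up ℤ) 0).obj M) [QuasiIso ε] (n : ℤ) (hn : n • 𝟙 M = 0) (i : ℤ)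
    (x : (tens K L).homology i) : n • x = 0 := by
  obtain ⟨K', ⟨e⟩⟩ := exists_homology_iso K L hL M ε i
  have h1 := hS_smul K' i M n
  rw [hn, Functor.map_zero] at h1
  have h2 : n • e.toLinearEquiv x = 0 := (congrArg (fun f => f.hom (e.toLinearEquiv x)) h1).symm
  rw [← map_zsmul] at h2
  exact (LinearEquiv.map_eq_zero_iff _).1 h2

theorem smul_bijective_of (K L : CM R) (hL : IsTest L) (M : ModuleCat.{u} R)
    (ε : L ⟶ (single (ModuleCat.{u} R) (ComplexShape.up ℤ) 0).obj M) [QuasiIso ε] (n : ℤ) [IsIso (n • 𝟙 M)] (i : ℤ) :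
    Function.Bijective (fun x : (tens K L).homology i => n • x) := by
  obtain ⟨K', ⟨e⟩⟩ := exists_homology_iso K L hL M ε i
  have h1 := hS_smul K' i M n
  have h2 : IsIso (n • 𝟙 ((hS K' i).obj M)) := by rw [← h1]; infer_instance
  have h3 := (ConcreteCategory.isIso_iff_bijective _).1 h2
  have h4 : Function.Bijective (fun x : (hS K' i).obj M => n • x) := h3
  have h5 : (fun x : (tens K L).homology i => n • x) =
      e.toLinearEquiv.symm ∘ (fun x : (hS K' i).obj M => n • x) ∘ e.toLinearEquiv := by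
    funext x
    change n • x = e.toLinearEquiv.symm (n • e.toLinearEquiv x)
    rw [← map_zsmul, LinearEquiv.symm_apply_apply]
  rw [h5]
  exact e.toLinearEquiv.symm.bijective.comp (h4.comp e.toLinearEquiv.bijective)

variable (x : PrimeSpectrum R)

theorem charP_of (p : ℕ) (hp : (p : R) ∈ x.asIdeal) (L : CM R) (hL : IsTest L)
    (ε : L ⟶ (single (ModuleCat.{u} R) (ComplexShape.up ℤ) 0).obj (ModuleCat.of R x.asIdeal.ResidueField)) [QuasiIso ε] :
    K353.CharP p L := by
  intro K i z
  refine smul_eq_zero_of K L hL _ ε (p : ℤ) ?_ i z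
  ext (y : x.asIdeal.ResidueField)
  change (p : ℤ) • y = 0
  have h1 : algebraMap R x.asIdeal.ResidueField p = 0 := Ideal.algebraMap_residueField_eq_zero.2 hp
  rw [natCast_zsmul, nsmul_eq_mul, ← map_natCast (algebraMap R x.asIdeal.ResidueField), h1, zero_mul]

theorem char0_of (hx : ∀ n : ℕ, n ≠ 0 → (n : R) ∉ x.asIdeal) (L : CM R) (hL : IsTest L)
    (ε : L ⟶ (single (ModuleCat.{u} R) (ComplexShape.up ℤ) 0).obj (ModuleCat.of R x.asIdeal.ResidueField)) [QuasiIso ε] :
    K353.Char0 L := by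
  intro n hn K i
  have h1 : algebraMap R x.asIdeal.ResidueField n ≠ 0 := fun h => hx n hn (Ideal.algebraMap_residueField_eq_zero.1 h)
  have h2 : IsIso ((n : ℤ) • 𝟙 (ModuleCat.of R x.asIdeal.ResidueField)) := by
    rw [ConcreteCategory.isIso_iff_bijective]
    have h3 : Function.Bijective (fun y : x.asIdeal.ResidueField => algebraMap R x.asIdeal.ResidueField n * y) :=
      (IsUnit.isUnit_iff_mulLeft_bijective.1 (isUnit_iff_ne_zero.2 h1))
    have h4 : (fun y : x.asIdeal.ResidueField => (n : ℤ) • y) =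
        fun y : x.asIdeal.ResidueField => algebraMap R x.asIdeal.ResidueField n * y := by
      funext y
      rw [natCast_zsmul, nsmul_eq_mul, map_natCast]
    rw [← h4] at h3
    exact h3
  exact smul_bijective_of K L hL _ ε (n : ℤ) i

end EF56
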