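import Groth.Agent.ResProp.EF.X56.SysNF
import Groth.Agent.ResProp.EF.Base
import Groth.Agent.ResProp.K56.Main

/-!
# From cartesian modules on the nerve to quasi-coherent modules on the stack
-/

set_option autoImplicit false
set_option linter.dupNamespace false
set_option linter.unusedSectionVars false
set_option linter.style.haveILetI false
set_option backward.isDefEq.respectTransparency false
set_option backward.isDefEq.respectTransparency.types false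

open CategoryTheory CategoryTheory.Limits AlgebraicGeometry Opposite StMod

namespace EF56

open K784.BC K784.PM K741.RP K784.Geo K56.RP K741

universe x₂ x₁ w v₁ u₁ v u

namespace Nv

variable {S : Scheme.{u}} {𝒳 : BasedCategory.{v, w} (Over S)}

/-- enough flats for the nerve give enough flats for the stack -/
theorem exists_flat_of_EF (h𝒳 : FibCat.IsFibGrpd 𝒳.p) {x₀ : (Aff 𝒳).obj} (H : HasProd x₀.obj) (D : PD (fa 𝒳) x₀)
    (hE : EF ((nerve D).op ⋙ fa 𝒳)) (M : QCoh 𝒳) :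
    ∃ (E : QCoh 𝒳) (r : E ⟶ M), (∀ ξ : 𝒳.obj, FlatMod.IsFlat (E.obj.obj ξ)) ∧ StMod.Mod.IsSurj r.hom := by
  haveI := h𝒳
  have pb := pb_aff h𝒳
  obtain ⟨F, q, hF, hq, hflat, hsurj⟩ := hE (PM.reindex (nerve D) (gs M)) (fun a b φ => gs_cart M ((nerve D).map φ))
  obtain ⟨t, ht1, ht2⟩ := exists_mor hF q hq
  let P : FAtlas.{0} 𝒳 := HasProd.atlas H
  obtain ⟨G, s, hs⟩ := K908.Desc.exists_qcoh (𝒳 := 𝒳) P.dense (sysAMod P (spm hF)) (sysAMod_isCart P (spm_cart hF))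
  let c : ∀ z : (Aff 𝒳).obj, K784.Tr.Over P.Z z → P.sieve.cat.obj := fun z qz =>
    ⟨z.obj, z.property, qz.imp fun _ ⟨b⟩ => ⟨b.hom⟩⟩
  let s' : ∀ (z : (Aff 𝒳).obj) (qz : K784.Tr.Over P.Z z),
      (gs G).obj z →ₗ[(fa 𝒳).obj (op z)] so F ⟨z, qz⟩ := fun z qz => s.app (c z qz)
  have hs' : ∀ z qz, Function.Bijective (s' z qz) := fun z qz => hs (c z qz)
  have sn : ∀ ⦃x z : (Aff 𝒳).obj⦄ (φ : x ⟶ z) (qx : K784.Tr.Over P.Z x) (qz : K784.Tr.Over P.Z z) (m : (gs G).obj z),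
      s' x qx ((gs G).map φ m) = sm hF (z' := ⟨x, qx⟩) (z := ⟨z, qz⟩) φ (s' z qz m) :=
    fun x z φ qx qz m => s.comm (ObjectProperty.homMk φ.hom : c x qx ⟶ c z qz) m
  obtain ⟨ev, h1, h2⟩ := (K784.Tr.FC.of_flatCart (gs_cart M).flatCart).extend pb (Q := K784.Tr.Over P.Z)
    (fun x z φ qz => qz.imp fun _ ⟨b⟩ => ⟨φ ≫ b⟩)
    (fun z => by
      obtain ⟨z', f, j, d, h⟩ := P.cov z
      exact ⟨z', f, (ff_iff f).2 h, j, ⟨d⟩⟩) (F := gs G)
    (fun z qz rz => (t ⟨z, qz⟩).comp (s' z qz)) (fun x z φ qx rx qz rz m => by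
      rw [LinearMap.comp_apply, sn φ qx qz]
      exact ht1 (x := ⟨x, qx⟩) (z := ⟨z, qz⟩) (ObjectProperty.homMk φ) (s' z qz m))
  let t' : K908.QHom.AHom (K908.QSec.rest G.obj (K908.AMod.ASieve.all 𝒳))
      (K908.QSec.rest M.obj (K908.AMod.ASieve.all 𝒳)) :=
    { app := fun z => ev z trivial
      comm := fun {x z} φ m => h1 φ trivial trivial m }
  let r : G ⟶ M := ObjectProperty.homMk (K908.QHom.homMk K908.Fam.zloc_all t')
  have hr : ∀ (z : (Aff 𝒳).obj) (m : (gs G).obj z), topLin r z m = ev z trivial m := fun z m =>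
    K908.QHom.homMk_app K908.Fam.zloc_all t' z m
  have q0 : K784.Tr.Over P.Z x₀ := ⟨PUnit.unit, ⟨𝟙 x₀⟩⟩
  have hb : Function.Bijective (io hF ⟨x₀, q0⟩ (𝟙 x₀)) := io_id_bijective hF q0
  refine ⟨G, r, isFlat_of_x0 h𝒳 D G ?_, isSurj_of_x0 D r fun y => ?_⟩
  · haveI hfl : Module.Flat ((fa 𝒳).obj (op x₀)) (F.obj ⟨0⟩) := hflat
    let e1 : so F ⟨x₀, q0⟩ ≃ₗ[(fa 𝒳).obj (op x₀)] F.obj ⟨0⟩ := (LinearEquiv.ofBijective
      { (io hF ⟨x₀, q0⟩ (𝟙 x₀)) with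
        map_smul' := fun r m => by
          have := (io_bc hF ⟨x₀, q0⟩ (𝟙 x₀)).semi r m
          rw [rg_id] at this
          exact this } hb).symm
    let e2 := LinearEquiv.ofBijective (s' x₀ q0) (hs' x₀ q0)
    exact Module.Flat.of_linearEquiv (e2.trans e1)
  · obtain ⟨e, he⟩ := hsurj y
    obtain ⟨m, hm⟩ := (hs' x₀ q0).2 (io hF ⟨x₀, q0⟩ (𝟙 x₀) e)
    refine ⟨m, ?_⟩
    rw [hr, h2 x₀ q0 trivial, LinearMap.comp_apply, hm, ht2]
    exact ((gs M).map_id x₀ _).trans he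

end Nv

end EF56
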