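import Groth.Agent.ResProp.EF.X56.Iface
import Mathlib.RingTheory.Smooth.Flat
import Mathlib.RingTheory.RingHom.FaithfullyFlat

/-!
# Absolute approximation: the groupoid ring generated by a subring of the ring of arrows
-/

set_option autoImplicit false
set_option linter.dupNamespace false
set_option linter.style.haveILetI false

open CategoryTheory CategoryTheory.Limits Opposite

namespace EF473

open K784.BC K784.PM K741.RP EF56

universe u

section PO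

variable {R₁ R₂ R₃ S₁ S₂ S₃ : Type u} [CommRing R₁] [CommRing R₂] [CommRing R₃] [CommRing S₁] [CommRing S₂] [CommRing S₃]

theorem po_paste {h₁₁ : R₁ →+* R₂} {h₁₂ : R₂ →+* R₃} {h₂₁ : S₁ →+* S₂} {h₂₂ : S₂ →+* S₃} {v₁ : R₁ →+* S₁}
    {v₂ : R₂ →+* S₂} {v₃ : R₃ →+* S₃} (s : IsPO h₁₁ v₁ v₂ h₂₁) (t : IsPO h₁₂ v₂ v₃ h₂₂) :
    IsPO (h₁₂.comp h₁₁) v₁ v₃ (h₂₂.comp h₂₁) :=
  IsPushout.paste_horiz s t

theorem po_of_left {h₁₁ : R₁ →+* R₂} {h₁₂ : R₂ →+* R₃} {h₂₁ : S₁ →+* S₂} {h₂₂ : S₂ →+* S₃} {v₁ : R₁ →+* S₁}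
    {v₂ : R₂ →+* S₂} {v₃ : R₃ →+* S₃} (s : IsPO (h₁₂.comp h₁₁) v₁ v₃ (h₂₂.comp h₂₁)) (p : v₃.comp h₁₂ = h₂₂.comp v₂)
    (t : IsPO h₁₁ v₁ v₂ h₂₁) : IsPO h₁₂ v₂ v₃ h₂₂ :=
  IsPushout.of_left s (congrArg CommRingCat.ofHom p) t

theorem po_iso {h : R₁ →+* R₂} {g : S₁ →+* S₂} {v₁ : R₁ →+* S₁} {v₂ : R₂ →+* S₂} (hc : v₂.comp h = g.comp v₁)
    {h' : R₂ →+* R₁} {g' : S₂ →+* S₁} (e₁ : h'.comp h = RingHom.id _) (e₂ : h.comp h' = RingHom.id _)
    (e₃ : g'.comp g = RingHom.id _) (e₄ : g.comp g' = RingHom.id _) : IsPO h v₁ v₂ g := by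
  haveI : IsIso (CommRingCat.ofHom h) := ⟨CommRingCat.ofHom h', congrArg CommRingCat.ofHom e₁, congrArg CommRingCat.ofHom e₂⟩
  haveI : IsIso (CommRingCat.ofHom g) := ⟨CommRingCat.ofHom g', congrArg CommRingCat.ofHom e₃, congrArg CommRingCat.ofHom e₄⟩
  exact IsPushout.of_horiz_isIso ⟨congrArg CommRingCat.ofHom hc⟩

end PO

/-! ### edges -/

/-- the arrow to `⟨1⟩` with components `i`, `j` -/
def ed {a : NF} (i j : Fin (a.n + 1)) : a ⟶ (⟨1⟩ : NF) := (![i, j] : Fin 2 → Fin (a.n + 1))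

/-- application of an arrow -/
def ap {a b : NF} (φ : a ⟶ b) (i : Fin (b.n + 1)) : Fin (a.n + 1) := (show Fin (b.n + 1) → Fin (a.n + 1) from φ) i

theorem comp_ed {a b : NF} (φ : b ⟶ a) (i j : Fin (a.n + 1)) : φ ≫ ed i j = ed (ap φ i) (ap φ j) := by
  funext k
  refine Fin.cases rfl (fun k => ?_) (show Fin 2 from k)
  refine Fin.cases rfl (fun k => k.elim0) (show Fin 1 from k)

theorem ed_id : ed (a := (⟨1⟩ : NF)) 0 1 = 𝟙 _ := by
  funext k
  refine Fin.cases rfl (fun k => ?_) (show Fin 2 from k)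
  refine Fin.cases rfl (fun k => k.elim0) (show Fin 1 from k)

theorem ed_eq {a : NF} (f : a ⟶ (⟨1⟩ : NF)) : f = ed (ap f 0) (ap f 1) := by
  funext k
  refine Fin.cases rfl (fun k => ?_) (show Fin 2 from k)
  refine Fin.cases rfl (fun k => k.elim0) (show Fin 1 from k)

variable (A : NFᵒᵖ ⥤ CommRingCat.{u})

/-- the subring generated by the images of `G` under all edges -/
def Bn (G : Subring (A.obj (op (⟨1⟩ : NF)))) (a : NF) : Subring (A.obj (op a)) :=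
  ⨆ i : Fin (a.n + 1), ⨆ j : Fin (a.n + 1), G.map (rg A (ed i j))

variable {A} (G : Subring (A.obj (op (⟨1⟩ : NF))))

theorem mem_Bn {a : NF} (i j : Fin (a.n + 1)) {g : A.obj (op (⟨1⟩ : NF))} (hg : g ∈ G) : rg A (ed i j) g ∈ Bn A G a := by
  have h1 : G.map (rg A (ed i j)) ≤ Bn A G a := le_iSup_of_le i (le_iSup (fun j => G.map (rg A (ed i j))) j)
  have h2 : rg A (ed i j) g ∈ G.map (rg A (ed i j)) := Subring.mem_map.2 ⟨g, hg, rfl⟩
  exact h1 h2

theorem Bn_le {a : NF} {S : Subring (A.obj (op a))} (h : ∀ (i j : Fin (a.n + 1)), ∀ g ∈ G, rg A (ed i j) g ∈ S) :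
    Bn A G a ≤ S := by
  refine iSup_le fun i => iSup_le fun j => ?_
  rintro _ ⟨g, hg, rfl⟩
  exact h i j g hg

theorem map_mem {a b : NF} (φ : a ⟶ b) {x : A.obj (op b)} (hx : x ∈ Bn A G b) : rg A φ x ∈ Bn A G a := by
  have : Bn A G b ≤ (Bn A G a).comap (rg A φ) := Bn_le G fun i j g hg => by
    change rg A φ (rg A (ed i j) g) ∈ Bn A G a
    rw [← rg_comp_apply, comp_ed]
    exact mem_Bn G _ _ hg
  exact this hx

/-- the transition maps -/
def mp {a b : NF} (φ : a ⟶ b) : Bn A G b →+* Bn A G a :=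
  ((rg A φ).comp (Bn A G b).subtype).codRestrict (Bn A G a) fun x => map_mem G φ x.2

theorem mp_comp {a b c : NF} (ψ : c ⟶ a) (φ : a ⟶ b) : mp G (ψ ≫ φ) = (mp G ψ).comp (mp G φ) :=
  RingHom.ext fun x => Subtype.ext (rg_comp_apply A ψ φ x.1)

theorem mp_id (a : NF) : mp G (𝟙 a) = RingHom.id _ :=
  RingHom.ext fun x => Subtype.ext (by
    change rg A (𝟙 a) x.1 = x.1
    rw [rg_id]; rfl)

/-- the sub-groupoid ring -/
def subF : NFᵒᵖ ⥤ CommRingCat.{u} where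
  obj a := CommRingCat.of (Bn A G a.unop)
  map φ := CommRingCat.ofHom (mp G φ.unop)
  map_id a := congrArg CommRingCat.ofHom (mp_id G a.unop)
  map_comp φ ψ := congrArg CommRingCat.ofHom (mp_comp G ψ.unop φ.unop)

/-- the inclusion -/
def incF : subF G ⟶ A where
  app a := CommRingCat.ofHom (Bn A G a.unop).subtype
  naturality _ _ _ := rfl

/-! ### closure properties -/

/-- `G` is closed under the operations -/
structure Cl (B0 : Subring (A.obj (op (⟨0⟩ : NF)))) (G : Subring (A.obj (op (⟨1⟩ : NF)))) : Prop where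
  hs : ∀ r ∈ B0, rg A (pr ⟨0⟩) r ∈ G
  ht : ∀ r ∈ B0, rg A (lst ⟨0⟩) r ∈ G
  he : ∀ g ∈ G, rg A (ed (a := (⟨0⟩ : NF)) 0 0) g ∈ B0
  hi : ∀ g ∈ G, rg A (ed (a := (⟨1⟩ : NF)) 1 0) g ∈ G
  hm : ∀ g ∈ G, rg A (ed (a := (⟨2⟩ : NF)) 0 2) g ∈ Subring.closure (rg A (pr ⟨1⟩) '' G ∪ rg A (wmap (lst ⟨0⟩)) '' G)

variable {G} {B0 : Subring (A.obj (op (⟨0⟩ : NF)))}

theorem ed00_pr : ed (a := (⟨0⟩ : NF)) 0 0 ≫ pr ⟨0⟩ = 𝟙 _ := by
  funext i
  exact Subsingleton.elim (α := Fin 1) _ _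

theorem Cl.Bn0 (h : Cl B0 G) : Bn A G (⟨0⟩ : NF) = B0 := by
  refine le_antisymm (Bn_le G fun i j g hg => ?_) fun r hr => ?_
  · have hi : i = 0 := Subsingleton.elim (α := Fin 1) _ _
    have hj : j = 0 := Subsingleton.elim (α := Fin 1) _ _
    subst hi; subst hj
    exact h.he g hg
  · have h1 : r = rg A (ed (a := (⟨0⟩ : NF)) 0 0) (rg A (pr ⟨0⟩) r) := by
      rw [← rg_comp_apply, ed00_pr, rg_id]; rfl
    rw [h1]
    exact mem_Bn G _ _ (h.hs r hr)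

theorem Cl.diag (h : Cl B0 G) {a : NF} (i : Fin (a.n + 1)) {g : A.obj (op (⟨1⟩ : NF))} (hg : g ∈ G) :
    ∃ r ∈ B0, rg A (ed i i) g = rg A (pt a i) r := by
  refine ⟨_, h.he g hg, ?_⟩
  rw [← rg_comp_apply, comp_ed]
  rfl

theorem pr0_eq : pr ⟨0⟩ = pt (⟨1⟩ : NF) 0 := by
  funext i
  have hi : i = 0 := Subsingleton.elim (α := Fin 1) _ _
  subst hi
  rfl

theorem Cl.Bn1 (h : Cl B0 G) : Bn A G (⟨1⟩ : NF) = G := by
  refine le_antisymm (Bn_le G fun i j g hg => ?_) fun g hg => ?_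
  · have key : ∀ i j : Fin 2, rg A (ed (a := (⟨1⟩ : NF)) i j) g ∈ G := by
      intro i j
      fin_cases i <;> fin_cases j
      · obtain ⟨r, hr, e⟩ := h.diag (a := (⟨1⟩ : NF)) 0 hg
        rw [← pr0_eq] at e
        exact e ▸ h.hs r hr
      · change rg A (ed (a := (⟨1⟩ : NF)) 0 1) g ∈ G
        rw [ed_id, rg_id]
        exact hg
      · exact h.hi g hg
      · obtain ⟨r, hr, e⟩ := h.diag (a := (⟨1⟩ : NF)) 1 hg
        exact e ▸ h.ht r hr
    exact key i j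
  · have h1 : g = rg A (ed (a := (⟨1⟩ : NF)) 0 1) g := by rw [ed_id, rg_id]; rfl
    rw [h1]
    exact mem_Bn G _ _ hg

theorem wmap_pt {a : NF} (i : Fin (a.n + 1)) : wmap (pt a i) = ed (a := (⟨a.n + 1⟩ : NF)) i.castSucc (Fin.last (a.n + 1)) := by
  refine nf_ext ?_ ?_
  · rw [wmap_pr]
    funext k
    have hk : k = 0 := Subsingleton.elim (α := Fin 1) _ _
    subst hk
    rfl
  · rw [wmap_lst]; rfl

/-- generation -/
theorem Cl.gen (h : Cl B0 G) {a : NF} (i : Fin (a.n + 1)) :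
    Bn A G (⟨a.n + 1⟩ : NF) ≤ Subring.closure (rg A (pr a) '' Bn A G a ∪ rg A (wmap (pt a i)) '' G) := by
  set T := Subring.closure (rg A (pr a) '' Bn A G a ∪ rg A (wmap (pt a i)) '' G)
  have h1 : ∀ (k l : Fin (a.n + 1)) (g) (_ : g ∈ G), rg A (ed (a := (⟨a.n + 1⟩ : NF)) k.castSucc l.castSucc) g ∈ T := by
    intro k l g hg
    refine Subring.subset_closure (Or.inl ⟨_, mem_Bn G k l hg, ?_⟩)
    rw [← rg_comp_apply, comp_ed]
    rfl
  have h2 : ∀ (k : Fin (a.n + 1)) (g) (_ : g ∈ G),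
      rg A (ed (a := (⟨a.n + 1⟩ : NF)) k.castSucc (Fin.last (a.n + 1))) g ∈ T := by
    intro k g hg
    let tri : (⟨a.n + 1⟩ : NF) ⟶ (⟨2⟩ : NF) := (![k.castSucc, i.castSucc, Fin.last (a.n + 1)] : Fin 3 → Fin (a.n + 2))
    have e1 : ed (a := (⟨a.n + 1⟩ : NF)) k.castSucc (Fin.last (a.n + 1)) = tri ≫ ed (a := (⟨2⟩ : NF)) 0 2 := by
      rw [comp_ed]; rfl
    rw [e1, rg_comp_apply]
    have e2 : Subring.closure (rg A (pr ⟨1⟩) '' G ∪ rg A (wmap (lst ⟨0⟩)) '' G) ≤ T.comap (rg A tri) := by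
      rw [Subring.closure_le]
      rintro _ (⟨g', hg', rfl⟩ | ⟨g', hg', rfl⟩)
      · change rg A tri (rg A (pr ⟨1⟩) g') ∈ T
        rw [← rg_comp_apply]
        have : tri ≫ pr ⟨1⟩ = ed (a := (⟨a.n + 1⟩ : NF)) k.castSucc i.castSucc := by
          rw [ed_eq (tri ≫ pr ⟨1⟩)]; rfl
        rw [this]
        exact h1 k i g' hg'
      · change rg A tri (rg A (wmap (lst ⟨0⟩)) g') ∈ T
        rw [← rg_comp_apply]
        have : tri ≫ wmap (lst ⟨0⟩) = wmap (pt a i) := by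
          rw [wmap_pt, ed_eq (tri ≫ wmap (lst ⟨0⟩))]; rfl
        rw [this]
        exact Subring.subset_closure (Or.inr ⟨g', hg', rfl⟩)
    exact e2 (h.hm g hg)
  refine Bn_le G fun k l g hg => ?_
  have key : ∀ k l : Fin (a.n + 2), rg A (ed (a := (⟨a.n + 1⟩ : NF)) k l) g ∈ T := by
    intro k l
    refine Fin.lastCases ?_ (fun k => ?_) k
    · refine Fin.lastCases ?_ (fun l => ?_) l
      · obtain ⟨r, hr, e⟩ := h.diag (a := (⟨a.n + 1⟩ : NF)) (Fin.last (a.n + 1)) hg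
        rw [e]
        have e1 : pt (⟨a.n + 1⟩ : NF) (Fin.last (a.n + 1)) = wmap (pt a i) ≫ lst ⟨0⟩ := (wmap_lst (pt a i)).symm
        rw [e1, rg_comp_apply]
        exact Subring.subset_closure (Or.inr ⟨_, h.ht r hr, rfl⟩)
      · have e1 : ed (a := (⟨a.n + 1⟩ : NF)) (Fin.last (a.n + 1)) l.castSucc =
            ed (a := (⟨a.n + 1⟩ : NF)) l.castSucc (Fin.last (a.n + 1)) ≫ ed (a := (⟨1⟩ : NF)) 1 0 := by
          rw [comp_ed]; rfl
        rw [e1, rg_comp_apply]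
        exact h2 l _ (h.hi g hg)
    · refine Fin.lastCases (h2 k g hg) (fun l => h1 k l g hg) l
  exact key k l


/-! ### pushout squares -/

/-- the descended source map is smooth, faithfully flat, and a cartesian approximation -/
structure Good {R Γ : Type u} [CommRing R] [CommRing Γ] (s : R →+* Γ) (B0 : Subring R) (G : Subring Γ) : Prop where
  h : ∀ a : B0, s a ∈ G
  sm : ((s.comp B0.subtype).codRestrict G h).Smooth
  ff : ((s.comp B0.subtype).codRestrict G h).FaithfullyFlat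
  po : IsPO B0.subtype ((s.comp B0.subtype).codRestrict G h) s G.subtype

variable (hA : GR A) (hsub : StmtSubPO.{u}) (hc : Cl B0 G) (hg : Good (rg A (pr ⟨0⟩)) (Bn A G ⟨0⟩) (Bn A G ⟨1⟩))

include hA hsub hc hg

theorem sq (a : NF) (i : Fin (a.n + 1)) :
    IsPO (mp G (pt a i)) (mp G (pr ⟨0⟩)) (mp G (pr a)) (mp G (wmap (pt a i))) := by
  refine hsub (rg A (pt a i)) (rg A (pr ⟨0⟩)) (rg A (pr a)) (rg A (wmap (pt a i))) (hA.po (pt a i)) _ _ _ _ _ _ _ _ ?_ ?_ ?_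
  · refine (hc.gen i).trans (Subring.closure_mono (Set.union_subset_union_right _ (Set.image_mono ?_)))
    rw [hc.Bn1]
  · exact hg.ff.flat
  · exact hg.po

theorem mp_ff (a : NF) : (mp G (pr a)).FaithfullyFlat :=
  (sq hA hsub hc hg a 0).flip.ff hg.ff

theorem mp_po {a b : NF} (φ : a ⟶ b) : IsPO (mp G φ) (mp G (pr b)) (mp G (pr a)) (mp G (wmap φ)) := by
  have h1 := sq hA hsub hc hg b 0
  have h2 := sq hA hsub hc hg a (ap φ 0)
  have e1 : pt a (ap φ 0) = φ ≫ pt b 0 := rfl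
  have e2 : wmap (φ ≫ pt b 0) = wmap φ ≫ wmap (pt b 0) := by
    refine nf_ext ?_ ?_
    · rw [wmap_pr, Category.assoc, wmap_pr, ← Category.assoc (wmap φ), wmap_pr, Category.assoc]
    · rw [wmap_lst, Category.assoc, wmap_lst, wmap_lst]
  rw [e1, e2, mp_comp, mp_comp] at h2
  refine po_of_left h2 ?_ h1
  rw [← mp_comp, ← mp_comp, wmap_pr]

/-- the comparison square -/
theorem cmp_pr (a : NF) : IsPO (mp G (pr a)) (Bn A G a).subtype (Bn A G _).subtype (rg A (pr a)) := by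
  have h1 := sq hA hsub hc hg a 0
  have h2 : IsPO ((rg A (pt a 0)).comp (Bn A G ⟨0⟩).subtype) (mp G (pr ⟨0⟩)) (rg A (pr a))
    ((rg A (wmap (pt a 0))).comp (Bn A G ⟨1⟩).subtype) := po_paste hg.po (hA.po (pt a 0))
  exact (po_of_left (h₁₂ := (Bn A G a).subtype) (h₂₂ := (Bn A G _).subtype) h2 rfl h1).flip

theorem cmp_pt0 (n : ℕ) : IsPO (mp G (pt ⟨n⟩ 0)) (Bn A G ⟨0⟩).subtype (Bn A G ⟨n⟩).subtype (rg A (pt ⟨n⟩ 0)) := by
  induction n with
  | zero =>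
    have e : pt ⟨0⟩ 0 = 𝟙 (⟨0⟩ : NF) := by
      funext i
      exact Subsingleton.elim (α := Fin 1) _ _
    rw [e]
    refine po_iso rfl (h' := RingHom.id _) (g' := RingHom.id _) ?_ ?_ ?_ ?_
    · rw [mp_id]; rfl
    · rw [mp_id]; rfl
    · rw [rg_id]; rfl
    · rw [rg_id]; rfl
  | succ n ih =>
    have e : pt (⟨n + 1⟩ : NF) 0 = pr ⟨n⟩ ≫ pt ⟨n⟩ 0 := rfl
    rw [e, mp_comp, rg_comp]
    exact po_paste ih (cmp_pr hA hsub hc hg ⟨n⟩)

theorem cmp_pt (a : NF) (i : Fin (a.n + 1)) : IsPO (mp G (pt a i)) (Bn A G ⟨0⟩).subtype (Bn A G a).subtype (rg A (pt a i)) := by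
  let σ : a ⟶ a := (Equiv.swap 0 i : Fin (a.n + 1) → Fin (a.n + 1))
  have hσ : σ ≫ σ = 𝟙 a := by
    funext k
    exact Equiv.swap_apply_self 0 i (show Fin (a.n + 1) from k)
  have e : pt a i = σ ≫ pt a 0 := by
    funext k
    exact (Equiv.swap_apply_left 0 i).symm
  rw [e, mp_comp, rg_comp]
  refine po_paste (cmp_pt0 hA hsub hc hg a.n) (po_iso rfl (h' := mp G σ) (g' := rg A σ) ?_ ?_ ?_ ?_)
  · rw [← mp_comp, hσ, mp_id]
  · rw [← mp_comp, hσ, mp_id]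
  · rw [← rg_comp, hσ, rg_id]
  · rw [← rg_comp, hσ, rg_id]

theorem cmp {a b : NF} (φ : a ⟶ b) : IsPO (mp G φ) (Bn A G b).subtype (Bn A G a).subtype (rg A φ) := by
  have h1 := cmp_pt hA hsub hc hg b 0
  have h2 := cmp_pt hA hsub hc hg a (ap φ 0)
  have e1 : pt a (ap φ 0) = φ ≫ pt b 0 := rfl
  rw [e1, mp_comp, rg_comp] at h2
  exact po_of_left h2 rfl h1

theorem grz (hft : (Int.castRingHom (Bn A G (⟨0⟩ : NF))).FiniteType) : GRZ (subF G) where
  ff a := mp_ff hA hsub hc hg a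
  po φ := mp_po hA hsub hc hg φ
  smooth := hg.sm
  ft := hft

theorem cartHom : CartHom (incF G) := fun φ => cmp hA hsub hc hg φ

omit hA hsub hc hg

/-- **absolute approximation** -/
theorem stmtApprox (h1 : StmtSmoothDesc.{u}) (h2 : StmtCore.{u}) (h3 : StmtSubPO.{u}) : StmtApprox.{u} := by
  intro A hA hsm
  obtain ⟨A₀, Γ₀, h, hft0, hsm0, hpo0⟩ := h1 (rg A (pr ⟨0⟩)) hsm
  obtain ⟨B, hAB, hftB, ht, he, hi, hm⟩ := h2 (rg A (pr ⟨0⟩)) (rg A (lst ⟨0⟩)) (rg A (ed (a := (⟨0⟩ : NF)) 0 0))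
    (rg A (ed (a := (⟨1⟩ : NF)) 1 0)) (rg A (pr ⟨1⟩)) (rg A (wmap (lst ⟨0⟩))) (rg A (ed (a := (⟨2⟩ : NF)) 0 2))
    (by rw [← rg_comp, ed00_pr, rg_id])
    (by
      rw [← rg_comp]
      have : ed (a := (⟨0⟩ : NF)) 0 0 ≫ lst ⟨0⟩ = 𝟙 _ := by
        funext i
        exact Subsingleton.elim (α := Fin 1) _ _
      rw [this, rg_id])
    (by
      rw [← rg_comp]
      have : ed (a := (⟨1⟩ : NF)) 1 0 ≫ pr ⟨0⟩ = lst ⟨0⟩ := by
        funext i
        have hi : i = 0 := Subsingleton.elim (α := Fin 1) _ _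
        subst hi
        rfl
      rw [this])
    (hA.po (lst ⟨0⟩))
    (by
      rw [← rg_comp, ← rg_comp]
      congr 1
      funext i
      have hi : i = 0 := Subsingleton.elim (α := Fin 1) _ _
      subst hi
      rfl)
    (by
      rw [← rg_comp, ← rg_comp]
      congr 1)
    A₀ Γ₀ h hft0 hsm0.flat (RingHom.FiniteType.of_finitePresentation hsm0.finitePresentation) hpo0
  set G := Subring.closure (rg A (pr ⟨0⟩) '' B ∪ Γ₀) with hG
  have hc : Cl B G :=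
    { hs := fun r hr => Subring.subset_closure (Or.inl ⟨r, hr, rfl⟩)
      ht := ht
      he := he
      hi := hi
      hm := hm }
  have sqr := h3 (RingHom.id _) (rg A (pr ⟨0⟩)) (rg A (pr ⟨0⟩)) (RingHom.id _)
    (po_iso (h' := RingHom.id _) (g' := RingHom.id _) rfl rfl rfl rfl rfl) A₀ Γ₀ B h (fun a => hAB a.2) G
    (fun a => hc.hs a.1 a.2) (fun g => Subring.subset_closure (Or.inr g.2))
    (by
      have : (RingHom.id (A.obj (op (⟨1⟩ : NF)))) '' (Γ₀ : Set (A.obj (op (⟨1⟩ : NF)))) = Γ₀ := Set.image_id _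
      rw [this]) hsm0.flat hpo0
  have good : Good (rg A (pr ⟨0⟩)) B G :=
    { h := fun a => hc.hs a.1 a.2
      sm := by
        have h2 := RingHom.isStableUnderCobaseChange_toMorphismProperty_iff.2 RingHom.Smooth.isStableUnderBaseChange
        exact h2.1 sqr hsm0
      ff := by
        rw [RingHom.FaithfullyFlat.iff_flat_and_comap_surjective]
        refine ⟨sqr.flip.flat hsm0.flat, fun P => ?_⟩
        let r : G →+* B := ((rg A (ed (a := (⟨0⟩ : NF)) 0 0)).comp G.subtype).codRestrict B fun g => he g.1 g.2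
        refine ⟨P.comap r, ?_⟩
        rw [← PrimeSpectrum.comap_comp_apply]
        have hr : r.comp (((rg A (pr ⟨0⟩)).comp B.subtype).codRestrict G fun a => hc.hs a.1 a.2) = RingHom.id B := by
          refine RingHom.ext fun b => Subtype.ext ?_
          change rg A (ed (a := (⟨0⟩ : NF)) 0 0) (rg A (pr ⟨0⟩) b.1) = b.1
          rw [← rg_comp_apply, ed00_pr, rg_id]
          rfl
        rw [hr]
        rfl
      po := po_of_left hpo0 rfl sqr }
  have good' : Good (rg A (pr ⟨0⟩)) (Bn A G ⟨0⟩) (Bn A G ⟨1⟩) := by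
    rw [hc.Bn0, hc.Bn1]
    exact good
  have hft' : (Int.castRingHom (Bn A G (⟨0⟩ : NF))).FiniteType := by
    rw [hc.Bn0]
    exact hftB
  exact ⟨subF G, incF G, grz hA h3 hc good' hft', cartHom hA h3 hc good'⟩

end EF473

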