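import Groth.Agent.ResProp.EF.X56.Iface
import Groth.Agent.ResProp.EF.K610.Chart

/-!
# N1: the smooth affine chart
-/

set_option autoImplicit false
set_option linter.dupNamespace false

namespace NChart610

theorem stmtChart : EF56.StmtChart := by
  intro S hS 𝒳 h𝒳 hqc hΔ
  obtain ⟨x₀, h1, h2⟩ := Groth.Agent.ResProp.EF.K610.exists_chart h𝒳 hqc hΔ
  exact ⟨x₀, h1, fun D => h2 D x₀⟩

end NChart610
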