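import Groth.Agent.ResProp.EF.X56.Iface

/-!
# `StmtNerve`: the nerve of a chart is a groupoid ring
-/

set_option autoImplicit false
set_option backward.isDefEq.respectTransparency false
set_option backward.isDefEq.respectTransparency.types false
set_option linter.dupNamespace false

open CategoryTheory Opposite
open K784.BC K784.PM K741.RP EF56

namespace NNerve162

universe v₁ u₁ u

section

variable {𝒞 : Type u₁} [Category.{v₁} 𝒞] {A : 𝒞ᵒᵖ ⥤ CommRingCat.{u}} {x₀ : 𝒞} (D : PD A x₀)

/-- the powers of `x₀`: `P n = x₀^(n+1)` -/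
def P : ℕ → 𝒞
  | 0 => x₀
  | n + 1 => D.w (P n)

/-- the projections -/
def pj : ∀ n : ℕ, Fin (n + 1) → (P D n ⟶ x₀)
  | 0, _ => 𝟙 x₀
  | n + 1, i => Fin.lastCases (motive := fun _ => (D.w (P D n) ⟶ x₀)) (D.b (P D n)) (fun j => D.π (P D n) ≫ pj n j) i

theorem pj_castSucc (n : ℕ) (j : Fin (n + 1)) : pj D (n + 1) j.castSucc = D.π (P D n) ≫ pj D n j :=
  Fin.lastCases_castSucc (motive := fun _ => (D.w (P D n) ⟶ x₀)) _

theorem pj_last (n : ℕ) : pj D (n + 1) (Fin.last (n + 1)) = D.b (P D n) :=
  Fin.lastCases_last (motive := fun _ => (D.w (P D n) ⟶ x₀))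

/-- the map into a power given by its components -/
def tup {y : 𝒞} : ∀ n : ℕ, (Fin (n + 1) → (y ⟶ x₀)) → (y ⟶ P D n)
  | 0, f => f 0
  | n + 1, f => D.lift (tup n fun i => f i.castSucc) (f (Fin.last (n + 1)))

theorem tup_pj {y : 𝒞} (n : ℕ) (f : Fin (n + 1) → (y ⟶ x₀)) (i : Fin (n + 1)) : tup D n f ≫ pj D n i = f i := by
  induction n with
  | zero =>
    have : i = 0 := Subsingleton.elim (α := Fin 1) _ _
    subst this
    exact Category.comp_id _
  | succ n ih =>
    refine Fin.lastCases ?_ (fun j => ?_) i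
    · rw [pj_last]
      exact D.lift_b _ _
    · rw [pj_castSucc]
      refine (Category.assoc (D.lift (tup D n fun i => f i.castSucc) (f (Fin.last (n + 1)))) (D.π (P D n)) (pj D n j)).symm.trans ?_
      rw [D.lift_π, ih]

theorem tup_ext {y : 𝒞} (n : ℕ) {l l' : y ⟶ P D n} (h : ∀ i, l ≫ pj D n i = l' ≫ pj D n i) : l = l' := by
  induction n with
  | zero =>
    exact (Category.comp_id (Y := x₀) l).symm.trans ((h 0).trans (Category.comp_id (Y := x₀) l'))
  | succ n ih =>
    refine D.ext (ih fun j => ?_) ?_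
    · have := h j.castSucc
      rw [pj_castSucc] at this
      exact (Category.assoc (Z := x₀) (Y := P D n) (X := D.w (P D n)) l _ _).trans (this.trans
        (Category.assoc (Z := x₀) (Y := P D n) (X := D.w (P D n)) l' _ _).symm)
    · have := h (Fin.last (n + 1))
      rwa [pj_last] at this

/-- the nerve -/
def nerve : NF ⥤ 𝒞 where
  obj a := P D a.n
  map {a b} φ := tup D b.n fun i => pj D a.n ((show Fin (b.n + 1) → Fin (a.n + 1) from φ) i)
  map_id a := tup_ext D _ fun i => by
    rw [tup_pj, Category.id_comp]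
    rfl
  map_comp {a b c} φ ψ := tup_ext D _ fun i => by
    rw [tup_pj, Category.assoc, tup_pj, tup_pj]
    rfl

theorem nerve_pr (a : NF) : (nerve D).map (pr a) = D.π (P D a.n) := tup_ext D _ fun i => by
  have : (nerve D).map (pr a) ≫ pj D a.n i = pj D (a.n + 1) (i.castSucc) := tup_pj D _ _ i
  rw [this, pj_castSucc]

theorem nerve_lst (a : NF) : (nerve D).map (lst a) = D.b (P D a.n) := by
  have : (nerve D).map (lst a) = pj D (a.n + 1) (Fin.last (a.n + 1)) := rfl
  rw [this, pj_last]

theorem nerve_gr : GR ((nerve D).op ⋙ A) where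
  ff a := by
    have : FF A ((nerve D).map (pr a)) := by
      rw [nerve_pr]
      exact D.ff _
    exact this
  po {a b} φ := by
    have : IsPO (rg A ((nerve D).map φ)) (rg A ((nerve D).map (pr b))) (rg A ((nerve D).map (pr a)))
        (rg A ((nerve D).map (wmap φ))) := by
      rw [nerve_pr, nerve_pr]
      refine D.po _ _ ?_ ?_
      · have h1 := congrArg (nerve D).map (wmap_pr φ)
        rw [Functor.map_comp, Functor.map_comp, nerve_pr, nerve_pr] at h1
        exact h1
      · have h1 := congrArg (nerve D).map (wmap_lst φ)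
        rw [Functor.map_comp, nerve_lst, nerve_lst] at h1
        exact h1
    exact this

end

theorem stmtNerve : StmtNerve.{v₁, u₁, u} := fun {𝒞} _ A x₀ D =>
  ⟨nerve D, rfl, nerve_gr D, fun h => by
    have : (rg A ((nerve D).map (pr ⟨0⟩))).Smooth := by
      rw [nerve_pr]
      exact h
    exact this⟩

end NNerve162
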