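import Groth.Agent.ResProp.EF.X56.Iface
import Mathlib.RingTheory.Smooth.NoetherianDescent
import Mathlib.RingTheory.Smooth.Flat

/-!
# A smooth ring map is the base change of a smooth map of finitely generated subrings
-/

set_option autoImplicit false
set_option linter.dupNamespace false

open CategoryTheory Opposite TensorProduct
open K784.BC

namespace EF56

universe u

theorem smoothDesc : StmtSmoothDesc.{u} := by
  intro A Γ _ _ s hs
  algebraize [s]
  obtain ⟨A₀, B₀, _, _, hfg, hsm, ⟨e⟩⟩ := Algebra.Smooth.exists_subalgebra_fg ℤ A Γ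
  have _ : Algebra.Smooth A₀ B₀ := hsm
  have _ : Module.Flat A₀ B₀ := inferInstance
  have hinc : Function.Injective (Algebra.TensorProduct.includeRight : B₀ →ₐ[A₀] A ⊗[A₀] B₀) :=
    Algebra.TensorProduct.includeRight_injective Subtype.val_injective
  let f : B₀ →+* Γ := (e.symm : A ⊗[A₀] B₀ →+* Γ).comp
    (Algebra.TensorProduct.includeRight : B₀ →ₐ[A₀] A ⊗[A₀] B₀).toRingHom
  have hf : Function.Injective f := e.symm.injective.comp hinc
  have hsf : ∀ a : A₀.toSubring, s a = f (algebraMap A₀ B₀ a) := by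
    intro a
    have h1 : s (a : A) = e.symm ((a : A) ⊗ₜ[A₀] (1 : B₀)) := by
      exact (e.symm.commutes (a : A)).symm
    rw [h1]
    change _ = e.symm ((1 : A) ⊗ₜ[A₀] (algebraMap A₀ B₀ a))
    congr 1
    rw [Algebra.algebraMap_eq_smul_one, TensorProduct.tmul_smul, TensorProduct.smul_tmul']
    congr 1
    exact (Algebra.algebraMap_eq_smul_one (A := A) (R := A₀) a)
  have h : ∀ a : A₀.toSubring, s a ∈ f.range := fun a => ⟨_, (hsf a).symm⟩
  let eB : B₀ ≃+* f.range := RingEquiv.ofBijective f.rangeRestrict ⟨fun x y hxy => hf (congrArg Subtype.val hxy),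
    f.rangeRestrict_surjective⟩
  have hg : (s.comp A₀.toSubring.subtype).codRestrict f.range h = (eB : B₀ →+* f.range).comp (algebraMap A₀ B₀) := by
    ext a
    exact hsf a
  refine ⟨A₀.toSubring, f.range, h, ?_, ?_, ?_⟩
  · have h1 : Algebra.FiniteType ℤ A₀ := (Subalgebra.fg_iff_finiteType A₀).mp hfg
    have h2 : (algebraMap ℤ A₀).FiniteType := by
      rw [RingHom.finiteType_algebraMap]
      exact h1
    have h3 : Int.castRingHom A₀.toSubring = algebraMap ℤ A₀ := Subsingleton.elim _ _
    rw [h3]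
    exact h2
  · rw [hg]
    refine RingHom.Smooth.comp ?_ ?_
    · exact RingHom.smooth_algebraMap.2 hsm
    · exact RingHom.Smooth.of_bijective eB.bijective
  · rw [hg]
    have h0 := CommRingCat.isPushout_tensorProduct A₀ A B₀
    refine IsPushout.of_iso h0 (Iso.refl _) (Iso.refl _) eB.toCommRingCatIso e.symm.toRingEquiv.toCommRingCatIso ?_ ?_ ?_ ?_
    · rfl
    · rfl
    · ext a
      exact e.symm.commutes a
    · rfl

end EF56
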