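import Groth.Agent.ResProp.EF.X56.Iface
import Groth.Agent.ResProp.EF.K741.SubPO

set_option autoImplicit false
set_option linter.dupNamespace false

namespace Groth.Agent.ResProp.EF.K741

universe u

/-- node N4c -/
theorem stmtSubPO : EF56.StmtSubPO.{u} := by
  intro A₀ Γ An An1 _ _ _ _ α s β γ h B₀ ΓB Bn hs hα Bn1 hβ hγ hle hfl h1
  exact subPO α s β γ h B₀ ΓB Bn hs hα Bn1 hβ hγ hle hfl h1

end Groth.Agent.ResProp.EF.K741
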