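import Groth.Agent.ResProp.EF.X56.NF

/-!
# The nerve of a chart
-/

set_option autoImplicit false
set_option linter.dupNamespace false

open CategoryTheory Opposite

namespace EF56

open K784.BC K784.PM K741.RP

universe v₁ u₁ u

namespace Nv

variable {𝒞 : Type u₁} [Category.{v₁} 𝒞] {A : 𝒞ᵒᵖ ⥤ CommRingCat.{u}} {x₀ : 𝒞} (D : PD A x₀)

/-- powers of the chart -/
def W : ℕ → 𝒞
  | 0 => x₀
  | n + 1 => D.w (W n)

/-- the points of a power -/
def ptW : ∀ (n : ℕ), Fin (n + 1) → (W D n ⟶ x₀)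
  | 0 => fun _ => 𝟙 x₀
  | n + 1 => Fin.lastCases (motive := fun _ => (W D (n + 1) ⟶ x₀)) (D.b (W D n)) (fun i => D.π (W D n) ≫ ptW n i)

theorem ptW_castSucc (n : ℕ) (i : Fin (n + 1)) : ptW D (n + 1) i.castSucc = D.π (W D n) ≫ ptW D n i :=
  Fin.lastCases_castSucc (motive := fun _ => (W D (n + 1) ⟶ x₀)) _

theorem ptW_last (n : ℕ) : ptW D (n + 1) (Fin.last (n + 1)) = D.b (W D n) :=
  Fin.lastCases_last (motive := fun _ => (W D (n + 1) ⟶ x₀))

/-- the morphism with given points -/
def liftW {y : 𝒞} : ∀ (n : ℕ) (_ : Fin (n + 1) → (y ⟶ x₀)), y ⟶ W D n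
  | 0 => fun f => f 0
  | n + 1 => fun f => D.lift (liftW n fun i => f i.castSucc) (f (Fin.last (n + 1)))

theorem liftW_pt {y : 𝒞} : ∀ (n : ℕ) (f : Fin (n + 1) → (y ⟶ x₀)) (i : Fin (n + 1)), liftW D n f ≫ ptW D n i = f i
  | 0, f, i => by
    have : i = 0 := Subsingleton.elim (α := Fin 1) _ _
    subst this
    exact Category.comp_id (f 0)
  | n + 1, f, i => by
    refine Fin.lastCases ?_ (fun j => ?_) i
    · rw [ptW_last]
      exact D.lift_b _ _
    · rw [ptW_castSucc]
      exact (Category.assoc (D.lift (liftW D n fun i => f i.castSucc) (f (Fin.last (n + 1)))) (D.π (W D n))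
        (ptW D n j)).symm.trans ((congrArg (fun t => t ≫ ptW D n j) (D.lift_π _ _)).trans (liftW_pt n _ j))

theorem extW {y : 𝒞} : ∀ (n : ℕ) {f g : y ⟶ W D n} (_ : ∀ i, f ≫ ptW D n i = g ≫ ptW D n i), f = g
  | 0, f, g, h => (Category.comp_id (X := y) (Y := x₀) f).symm.trans ((h 0).trans (Category.comp_id (X := y) (Y := x₀) g))
  | n + 1, f, g, h => by
    refine D.ext (extW n fun i => ?_) ?_
    · have := h i.castSucc
      rw [ptW_castSucc] at this
      exact (Category.assoc f (D.π (W D n)) (ptW D n i)).trans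
        (this.trans (Category.assoc g (D.π (W D n)) (ptW D n i)).symm)
    · have := h (Fin.last (n + 1))
      rwa [ptW_last] at this

/-- the nerve -/
def nerve : NF ⥤ 𝒞 where
  obj a := W D a.n
  map {a b} g := liftW D b.n fun i => ptW D a.n ((show Fin (b.n + 1) → Fin (a.n + 1) from g) i)
  map_id a := extW D a.n fun i => by
    rw [liftW_pt, Category.id_comp]
    rfl
  map_comp {a b c} f g := extW D c.n fun i => by
    rw [liftW_pt, Category.assoc, liftW_pt, liftW_pt]
    rfl

theorem nerve_map_pt {a b : NF} (g : a ⟶ b) (i : Fin (b.n + 1)) :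
    (nerve D).map g ≫ ptW D b.n i = ptW D a.n ((show Fin (b.n + 1) → Fin (a.n + 1) from g) i) := liftW_pt D _ _ i

theorem nerve_pt (a : NF) (i : Fin (a.n + 1)) : (nerve D).map (pt a i) = ptW D a.n i := rfl

theorem nerve_pr (a : NF) : (nerve D).map (pr a) = D.π (W D a.n) := extW D a.n fun i =>
  (nerve_map_pt D (pr a) i).trans (ptW_castSucc D a.n i)

theorem nerve_lst (a : NF) : (nerve D).map (lst a) = D.b (W D a.n) := ptW_last D a.n

theorem gr : GR ((nerve D).op ⋙ A) where
  ff a := by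
    change FF A ((nerve D).map (pr a))
    rw [nerve_pr]
    exact D.ff _
  po {a b} φ := by
    change IsPO (rg A ((nerve D).map φ)) (rg A ((nerve D).map (pr b))) (rg A ((nerve D).map (pr a)))
      (rg A ((nerve D).map (wmap φ)))
    rw [nerve_pr, nerve_pr]
    have h1 := (((nerve D).map_comp (wmap φ) (pr b)).symm.trans
      (congrArg (nerve D).map (wmap_pr φ))).trans ((nerve D).map_comp (pr a) φ)
    have h2 := ((nerve D).map_comp (wmap φ) (lst b)).symm.trans (congrArg (nerve D).map (wmap_lst φ))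
    rw [nerve_pr, nerve_pr] at h1
    rw [nerve_lst, nerve_lst] at h2
    exact D.po _ _ h1 h2

end Nv

end EF56
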