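import Groth.Agent.ResProp.EF.K894.C4
import Groth.Agent.ResProp.EF.K935.Perf
import Groth.Agent.ResProp.EF.K10.TTor
import Groth.Agent.ResProp.EF.K353.Defs2

/-!
# From the output of OverZ (`K353.Out` at all points) to `Chart.Hit`
-/

set_option autoImplicit false
set_option backward.defeqAttrib.useBackward true
set_option backward.isDefEq.respectTransparency false

universe w'' w' w v u t

open CategoryTheory CategoryTheory.Limits HomologicalComplex CochainComplex

attribute [local instance] HasDerivedCategory.standard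

namespace EF56

open Groth.Agent.ResProp.EF Groth.Agent.ResProp.EF.K294 Groth.Agent.ResProp.EF.K894 Groth.Agent.ResProp.EF.F5
  Groth.Agent.ResProp.EF.K935
open Groth.Agent.PerfB.RingKFlat

variable {A : Type u} [CommRing A] {C : Type v} [Category.{w} C] [Abelian C] (X : Chart A C)

/-- elements killed by `d` are cycles -/
theorem exists_cycle (K : CM A) (i j : ℤ) (hij : (ComplexShape.up ℤ).next i = j) (x : K.X i)
    (hx : (K.d i j).hom x = 0) : ∃ c : K.cycles i, (K.iCycles i).hom c = x := by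
  have hk : (ModuleCat.ofHom (LinearMap.toSpanSingleton A _ x) : ModuleCat.of A A ⟶ K.X i) ≫ K.d i j = 0 := by
    ext
    simpa using hx
  refine ⟨(K.liftCycles _ j hij hk).hom (1 : A), ?_⟩
  have := congrArg (fun a => a.hom (1 : A)) (K.liftCycles_i _ j hij hk)
  refine Eq.trans this ?_
  change (1 : A) • x = x
  exact one_smul _ _

/-- sections of `Z` as classes of degree `0` of `Z[0]` -/
theorem exists_class {Z : C} (z : X.us.obj Z) :
    ∃ y : (X.usC ⋙ hf A 0).obj ((single C (ComplexShape.up ℤ) 0).obj Z),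
      ∀ (T : CochainComplex C ℤ) (g : T ⟶ (single C (ComplexShape.up ℤ) 0).obj Z)
        (t : (X.usC ⋙ hf A 0).obj T), ((X.usC ⋙ hf A 0).map g).hom t = y → X.IsHit T z := by
  let SZ := (single C (ComplexShape.up ℤ) 0).obj Z
  let S := X.usC.obj SZ
  let e := singleObjXSelf (ComplexShape.up ℤ) 0 Z
  let w : S.X 0 := (X.us.map e.inv).hom z
  have hd : S.d 0 1 = 0 := by
    change X.us.map (SZ.d 0 1) = 0
    rw [single_obj_d, X.us.map_zero]
  have hd' : S.d (-1) 0 = 0 := by
    change X.us.map (SZ.d (-1) 0) = 0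
    rw [single_obj_d, X.us.map_zero]
  obtain ⟨c, hc⟩ := exists_cycle S 0 1 (by simp) w (by rw [hd]; rfl)
  refine ⟨(S.homologyπ 0).hom c, fun T g t ht => ?_⟩
  let K := X.usC.obj T
  have hs : Function.Surjective (K.homologyπ 0).hom :=
    (ModuleCat.epi_iff_surjective (K.homologyπ 0)).1 inferInstance
  obtain ⟨a, rfl⟩ := hs t
  have h1 : (S.homologyπ 0).hom ((cyclesMap (X.usC.map g) 0).hom a) = (S.homologyπ 0).hom c := by
    have := congrArg (fun f => f.hom a) (homologyπ_naturality (X.usC.map g) 0)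
    refine Eq.trans ?_ ht
    exact this.symm
  have hi : Function.Injective (S.homologyπ 0).hom := by
    have := S.isIso_homologyπ (-1) 0 (by simp) hd'
    exact (ModuleCat.mono_iff_injective (S.homologyπ 0)).1 inferInstance
  have h2 : (cyclesMap (X.usC.map g) 0).hom a = c := hi h1
  have h3 : (X.us.map (g.f 0)).hom ((K.iCycles 0).hom a) = w := by
    have := congrArg (fun f => f.hom a) (cyclesMap_i (X.usC.map g) 0)
    refine Eq.trans this.symm ?_
    change (S.iCycles 0).hom ((cyclesMap (X.usC.map g) 0).hom a) = w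
    rw [h2, hc]
  refine ⟨g.f 0 ≫ e.hom, (K.iCycles 0).hom a, ?_, ?_, ?_⟩
  · rw [← Category.assoc, ← g.comm]
    simp
  · have := congrArg (fun f => f.hom a) (K.iCycles_d 0 1)
    exact this
  · rw [X.us.map_comp, ModuleCat.hom_comp, LinearMap.comp_apply, h3]
    change (X.us.map e.hom).hom ((X.us.map e.inv).hom z) = z
    have h4 := congrArg (fun f => f.hom z) (X.us.mapIso e).inv_hom_id
    exact h4

theorem bdd_single (Z : C) : Bdd ((single C (ComplexShape.up ℤ) 0).obj Z) := ⟨0, 0, inferInstance, inferInstance⟩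

/-- hits of all classes with a lower Tor bound give `Hit` -/
theorem hit_of_hits (H : Hits (K10.TTor X) (BddP C) (X.usC ⋙ hf A 0)) : X.Hit := by
  intro Z z
  obtain ⟨y, hy⟩ := exists_class X z
  obtain ⟨T, hT, hTT, g, t, ht⟩ := H _ (bdd_single Z) y
  obtain ⟨a, ha⟩ := (K10.tTor_Q_iff X T).1 hTT
  exact ⟨a, T, ha, hy T g t ht⟩

/-- **OverZ ⇒ Hit** -/
theorem hit_of_out [IsNoetherianRing A]
    (H : ∀ (q : Ideal A) [q.IsPrime] (j : ℤ),
      K353.Out X.us ((K926.Res A).obj (ModuleCat.of A q.ResidueField)) j) : X.Hit := by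
  refine hit_of_hits X (hits_of_HL closed_bdd (HL.self (wP X (BddP C)) fun q _ j => ?_) 0)
  refine LL_of_hits (h := X.usC ⋙ tr ((K926.Res A).obj (ModuleCat.of A q.ResidueField)) ⋙ hf A j)
    (closed_bdd (C := C)).toConeClosed (fun f Hf => hinv X _ j f Hf) ?_
  intro Y hY y
  obtain ⟨T, f, t, a, hT, ha, -, ht⟩ := H q j Y hY y
  exact ⟨T, hT, (K10.tTor_Q_iff X T).2 ⟨a, ha⟩, f, t, ht⟩

end EF56
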