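import Groth.Agent.ResProp.EF.X56.CharL
import Groth.Agent.ResProp.EF.X56.OutHit
import Groth.Agent.ResProp.EF.K408.LocOut
import Groth.Agent.ResProp.EF.K353.OverZp
import Groth.Agent.ResProp.EF.K353.Defs3
import Groth.Agent.ResProp.EF.K417.SpreadT
import Groth.Agent.ResProp.EF.K799.Congr
import Groth.Agent.ResProp.EF.K929.LocFin

/-!
# `Arch.StmtOverZ`
-/

set_option autoImplicit false
set_option linter.dupNamespace false
set_option backward.isDefEq.respectTransparency false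

universe u

open CategoryTheory CategoryTheory.Limits Opposite HomologicalComplex

namespace EF56

open Groth.Agent.ResProp.EF Groth.Agent.ResProp.EF.K294 Groth.Agent.ResProp.EF.Arch
open K784.BC K784.PM K741.RP

theorem exists_prime_mem {R : Type u} [CommRing R] (x : PrimeSpectrum R) : ∀ n : ℕ, n ≠ 0 → (n : R) ∈ x.asIdeal →
    ∃ p : ℕ, p.Prime ∧ (p : R) ∈ x.asIdeal := by
  intro n
  induction n using Nat.recOnMul with
  | zero => intro h; exact absurd rfl h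
  | one =>
    intro _ h
    rw [Nat.cast_one] at h
    exact absurd ((Ideal.eq_top_iff_one _).2 h) x.isPrime.ne_top
  | prime q hq => exact fun _ h => ⟨q, hq, h⟩
  | mul a b iha ihb =>
    intro hab h
    rw [Nat.cast_mul] at h
    rcases x.isPrime.mem_or_mem h with h | h
    · exact iha (by rintro rfl; simp at hab) h
    · exact ihb (by rintro rfl; simp at hab) h

theorem not_mem_of_coprime {R : Type u} [CommRing R] (x : PrimeSpectrum R) {n p : ℕ} (h : n.Coprime p)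
    (hp : (p : R) ∈ x.asIdeal) : (n : R) ∉ x.asIdeal := by
  intro hn
  obtain ⟨a, b, hab⟩ := Nat.isCoprime_iff_coprime.2 h
  refine x.isPrime.ne_top ((Ideal.eq_top_iff_one _).2 ?_)
  have h1 : (a : R) * n + b * p = 1 := by exact_mod_cast congrArg (Int.cast : ℤ → R) hab
  rw [← h1]
  exact Ideal.add_mem _ (Ideal.mul_mem_left _ _ hn) (Ideal.mul_mem_left _ _ hp)

instance vst_colim (A : NFᵒᵖ ⥤ CommRingCat.{u}) [Fact (GR A)] : HasColimitsOfShape ℕ (Comod A) :=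
  have : HasColimitsOfSize.{0, 0} (Comod A) := hasColimitsOfSizeShrink.{0, 0, u, u} (Comod A)
  inferInstance

instance vst_preserves (A : NFᵒᵖ ⥤ CommRingCat.{u}) [Fact (GR A)] : PreservesColimitsOfShape ℕ (vst A) :=
  have : PreservesColimitsOfSize.{0, 0} (vst A) := preservesColimitsOfSize_shrink.{0, u, 0, u} (vst A)
  inferInstance

/-- **OverZ at a point of characteristic `0`**, for charts `vst A` -/
def OverZ0 : Prop := ∀ (A : NFᵒᵖ ⥤ CommRingCat.{u}) [Fact (GR A)], IsNoetherianRing (A.obj (op ⟨0⟩)) →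
  ∀ (L : CM (A.obj (op ⟨0⟩))) (j : ℤ) (p : ℕ), p.Prime → IsTest L → K353.Char0 L →
    (∀ q : ℕ, q.Prime → K353.Hq (vst A) L j q) → K353.HqFg (vst A) L j p → K353.LocFin (vst A) →
      K353.SpreadT (A.obj (op ⟨0⟩)) → K353.Out (vst A) L j

/-- the same with finitely generated terms -/
def OverZ0t : Prop := ∀ (A : NFᵒᵖ ⥤ CommRingCat.{u}) [Fact (GR A)], IsNoetherianRing (A.obj (op ⟨0⟩)) →
  K353.StmtOverZ0' (vst A)

/-- the first hypothesis of `Arch.StmtOverZ` -/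
def LocRes (A : NFᵒᵖ ⥤ CommRingCat.{u}) : Prop := ∀ (p : ℕ) [Fact p.Prime] [Fact (GR (K944.lam (K209.Lb.{u} p) A))]
  (X : Chart ((K944.lam (K209.Lb.{u} p) A).obj (op ⟨0⟩)) (Comod (K944.lam (K209.Lb.{u} p) A))),
    IsChart _ X → ∀ x, ResHit X x

/-- hits with finitely generated terms, at a point -/
def HqFtPoint : Prop := ∀ (A : NFᵒᵖ ⥤ CommRingCat.{u}) [Fact (GR A)], GRZ A → LocRes A →
    ∀ (q : ℕ) [Fact q.Prime] (x : PrimeSpectrum (A.obj (op ⟨0⟩))),
    (∀ n : ℕ, n.Coprime q → (n : A.obj (op ⟨0⟩)) ∉ x.asIdeal) →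
    ∀ (L : CM (A.obj (op ⟨0⟩))), IsTest L →
    ∀ (ε : L ⟶ (single (ModuleCat.{u} (A.obj (op ⟨0⟩))) (ComplexShape.up ℤ) 0).obj
      (ModuleCat.of (A.obj (op ⟨0⟩)) x.asIdeal.ResidueField)) [QuasiIso ε] (i : ℤ), K353.HqFt (vst A) L i q

theorem noeth_of_GRZ {A : NFᵒᵖ ⥤ CommRingCat.{u}} (hA : GRZ A) : IsNoetherianRing (A.obj (op ⟨0⟩)) := by
  have h1 : Algebra.FiniteType ℤ (A.obj (op ⟨0⟩)) := by
    have h2 := hA.ft
    have e : algebraMap ℤ (A.obj (op ⟨0⟩)) = Int.castRingHom (A.obj (op ⟨0⟩)) := RingHom.ext_int _ _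
    rw [← e] at h2
    exact RingHom.finiteType_algebraMap.1 h2
  exact Algebra.FiniteType.isNoetherianRing ℤ _

/-- the composition, with the characteristic `0` case as a hypothesis -/
theorem stmtOverZ_of_char0 (h0 : ∀ (A : NFᵒᵖ ⥤ CommRingCat.{u}) [Fact (GR A)], GRZ A → LocRes A →
    ∀ (x : PrimeSpectrum (A.obj (op ⟨0⟩))), (∀ n : ℕ, n ≠ 0 → (n : A.obj (op ⟨0⟩)) ∉ x.asIdeal) →
    ∀ (L : CM (A.obj (op ⟨0⟩))), IsTest L →
    ∀ (ε : L ⟶ (single (ModuleCat.{u} (A.obj (op ⟨0⟩))) (ComplexShape.up ℤ) 0).obj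
      (ModuleCat.of (A.obj (op ⟨0⟩)) x.asIdeal.ResidueField)) [QuasiIso ε] (i : ℤ), K353.Out (vst A) L i) :
    StmtOverZ.{u} := by
  refine stmtOverZ_of fun A _ hA H => ?_
  have hN := noeth_of_GRZ hA
  refine hit_of_out (chartF A) fun q hq j => ?_
  change K353.Out (vst A) _ j
  let x : PrimeSpectrum (A.obj (op ⟨0⟩)) := ⟨q, hq⟩
  set M : ModuleCat.{u} (A.obj (op ⟨0⟩)) := ModuleCat.of (A.obj (op ⟨0⟩)) x.asIdeal.ResidueField with hM
  change K353.Out (vst A) ((K926.Res _).obj M) j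
  have hL : IsTest ((K926.Res (A.obj (op ⟨0⟩))).obj M) :=
    ⟨K926.isStrictlyLE_res M, K926.flat_res_X M, K926.res_exactAt M⟩
  have hε : QuasiIso (K926.aug M) := K926.quasiIso_aug M
  have H' : LocRes A := fun p _ _ X hX x => resHit_congr ((chartF_us _).trans hX.symm) (H p x)
  by_cases h : ∃ n : ℕ, n ≠ 0 ∧ (n : A.obj (op ⟨0⟩)) ∈ x.asIdeal
  · obtain ⟨p, hp, hpx⟩ : ∃ p : ℕ, p.Prime ∧ (p : A.obj (op ⟨0⟩)) ∈ x.asIdeal := by
      obtain ⟨n, hn, hnx⟩ := h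
      exact exists_prime_mem x n hn hnx
    have : Fact p.Prime := ⟨hp⟩
    have hx : ∀ n : ℕ, n.Coprime p → (n : A.obj (op ⟨0⟩)) ∉ x.asIdeal := fun n hn =>
      not_mem_of_coprime x hn hpx
    have h1 := (K408.hq_point A hA H' p x hx _ hL (K926.aug M) j).1
    exact K353.stmtOverZp (vst A) _ j p hp hL (charP_of x p hpx _ hL (K926.aug M)) h1
  · push Not at h
    exact h0 A hA H' x h _ hL (K926.aug M) j

theorem coprime_not_mem {A : NFᵒᵖ ⥤ CommRingCat.{u}} {x : PrimeSpectrum (A.obj (op ⟨0⟩))}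
    (h : ∀ n : ℕ, n ≠ 0 → (n : A.obj (op ⟨0⟩)) ∉ x.asIdeal) (q : ℕ) (hq : q.Prime) (n : ℕ) (hn : n.Coprime q) :
    (n : A.obj (op ⟨0⟩)) ∉ x.asIdeal := by
  refine h n ?_
  rintro rfl
  rw [Nat.coprime_zero_left] at hn
  exact hq.one_lt.ne' hn

theorem stmtOverZ_of_Z0 (h0 : OverZ0.{u}) : StmtOverZ.{u} :=
  stmtOverZ_of_char0 fun A _ hA H' x h L hL ε _ j => by
    refine h0 A (noeth_of_GRZ hA) _ j 2 Nat.prime_two hL (char0_of x h _ hL ε) ?_ ?_
      (have := noeth_of_GRZ hA; K929.locFin_vst) (have := noeth_of_GRZ hA; K417.spreadT)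
    · intro q hq
      have : Fact q.Prime := ⟨hq⟩
      exact (K408.hq_point A hA H' q x (coprime_not_mem h q hq) _ hL ε j).1
    · have : Fact (Nat.Prime 2) := ⟨Nat.prime_two⟩
      exact (K408.hq_point A hA H' 2 x (coprime_not_mem h 2 Nat.prime_two) _ hL ε j).2

theorem stmtOverZ_of_Z0t (h0 : OverZ0t.{u}) (h1 : HqFtPoint.{u}) : StmtOverZ.{u} :=
  stmtOverZ_of_char0 fun A _ hA H' x h L hL ε _ j => by
    refine h0 A (noeth_of_GRZ hA) _ j 2 Nat.prime_two hL (char0_of x h _ hL ε) ?_ ?_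
      (have := noeth_of_GRZ hA; K929.locFin_vst) (have := noeth_of_GRZ hA; K417.spreadT)
    · intro q hq
      have : Fact q.Prime := ⟨hq⟩
      exact (K408.hq_point A hA H' q x (coprime_not_mem h q hq) _ hL ε j).1
    · have : Fact (Nat.Prime 2) := ⟨Nat.prime_two⟩
      exact h1 A hA H' 2 x (coprime_not_mem h 2 Nat.prime_two) _ hL ε j

end EF56
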