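import Groth.Agent.ResProp.EF.X56.StmtAct

/-!
# `K868.StmtRoofHit` is a theorem; `Arch.StmtKernelHit` from `K868.StmtRep`
-/

set_option autoImplicit false
set_option linter.dupNamespace false

universe u

namespace EF56

open Groth.Agent.ResProp.EF

theorem stmtRoofHit : K868.StmtRoofHit.{u} := K868.stmtRoofHit Act.stmtAct

theorem stmtKernelHit_of_rep (h : K868.StmtRep.{u}) : Arch.StmtKernelHit.{u} := K868.stmtKernelHit h stmtRoofHit

end EF56
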