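import Groth.Agent.ResProp.EF.X56.ActInd
import Groth.Agent.ResProp.EF.K566.KerSm
import Groth.Agent.ResProp.EF.K868.RoofHit

/-!
# `K868.StmtAct` (helper56)
-/

set_option autoImplicit false
set_option backward.defeqAttrib.useBackward true
set_option backward.isDefEq.respectTransparency false
set_option linter.dupNamespace false

open CategoryTheory CategoryTheory.Limits Opposite HomologicalComplex

noncomputable section

namespace EF56.Act

open Groth.Agent.ResProp.EF Groth.Agent.ResProp.EF.K294 Groth.Agent.ResProp.EF.K868 Groth.Agent.ResProp.EF.Arch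
  Groth.Agent.ResProp.EF.Grp K784.BC K784.PM K741.RP K494.Seam
open Groth.Agent.PerfB.RingKFlat Groth.Agent.Dcoh.KFlatAbs

attribute [local instance] K911.TChart.add K911.TChart.add_obj K911.TChart.hmb

universe u

variable {k : Type u} [CommRing k] {A : NFᵒᵖ ⥤ CommRingCat.{u}} [GRF k A] [hA : Fact (GR A)]
  {x : PrimeSpectrum (A.obj (op ⟨0⟩))} {c : CoverDatum k A x}

theorem exists_actFor (KD : KernelDatum c) (r : KRoof KD) : Nonempty (ActFor KD r) := by
  have hs := r.qs
  have ht := r.qt
  have hge := r.geK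
  have hle := r.leK
  have g1 : (cmCx KD.K KD.d KD.dd).IsStrictlyGE (-KD.e : ℤ) :=
    isStrictlyGE_cmCx KD.K KD.d KD.dd _ fun n hn => KD.bdd n (Or.inl hn)
  have g2 : (cmCx KD.K KD.d KD.dd).IsStrictlyLE 0 :=
    isStrictlyLE_cmCx KD.K KD.d KD.dd _ fun n hn => KD.bdd n (Or.inr hn)
  have g3 : ((chartF A).usC.obj (cmCx KD.K KD.d KD.dd)).IsStrictlyLE 0 := by
    rw [CochainComplex.isStrictlyLE_iff] at g2 ⊢
    exact fun i hi => (chartF A).us.map_isZero (g2 i hi)
  have g4 : ((chartF A).usC.obj r.D.K).IsStrictlyLE 0 := by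
    rw [CochainComplex.isStrictlyLE_iff] at hle ⊢
    exact fun i hi => (chartF A).us.map_isZero (hle i hi)
  have hL : KFl (TR (A.obj (op ⟨0⟩))) ((chartF A).usC.obj r.D.K) := K894.kfl_right _ 0 r.D.flatK
  obtain ⟨D⟩ := exists_lft ((chartF A).usC.map r.s) ((chartF A).usC.map r.t) (K566.actKc KD) 0
  exact ⟨{ act := fun Y p j => act (K110.tchartF A).data D hL Y p j
           small := fun Y hY j => small_all D hL (K566.smallKD KD) (K566.smallKD_S KD) (-KD.e : ℤ) 0 (-KD.e : ℤ) Y hY j
           nat := fun _ _ f p => act_nat (K110.tchartF A).data D hL f p 0 }⟩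

/-- **(c4)** -/
theorem stmtAct : StmtAct.{u} := fun _ _ _ _ _ _ _ _ _ KD r => exists_actFor KD r

end EF56.Act
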