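import Groth.Agent.ResProp.EF.K940.OverZ
import Groth.Agent.ResProp.EF.K353.OverZ0

/-!
# `Arch.StmtOverZ` is a theorem
-/

set_option autoImplicit false
set_option linter.dupNamespace false

universe u

open CategoryTheory CategoryTheory.Limits Opposite

namespace EF56

open Groth.Agent.ResProp.EF Groth.Agent.ResProp.EF.Arch

/-- **OverZ** -/
theorem stmtOverZ : StmtOverZ.{u} := K940.stmtOverZ_of0 fun A _ _ => by
  have : HasColimitsOfSize.{0, 0} (Comod A) := hasColimitsOfSizeShrink.{0, 0, u, u} (Comod A)
  have : PreservesColimitsOfSize.{0, 0} (vst A) := (chartF A).adj.leftAdjoint_preservesColimits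
  exact K353.stmtOverZ0' (vst A)

end EF56
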