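import Groth.Agent.ResProp.EF.X56.Tw

/-!
# The cartesian module on the objects over the chart
-/

set_option autoImplicit false
set_option linter.dupNamespace false
set_option linter.unusedSectionVars false
set_option backward.isDefEq.respectTransparency false
set_option backward.isDefEq.respectTransparency.types false

open CategoryTheory Opposite

namespace EF56

open K784.BC K784.PM K741.RP

universe x₂ x₁ w v₁ u₁ u

namespace Nv

variable {𝒞 : Type u₁} [Category.{v₁} 𝒞] {A : 𝒞ᵒᵖ ⥤ CommRingCat.{u}} {x₀ : 𝒞} {D : PD A x₀}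
  {F : PM.{u} ((nerve D).op ⋙ A)} (hF : F.Cart)

/-- the constant family -/
abbrev Zc (x₀ : 𝒞) : PUnit.{1} → 𝒞 := fun _ => x₀

/-- the objects over the chart -/
abbrev Ov (x₀ : 𝒞) := (K784.Tr.Over (Zc x₀)).FullSubcategory

/-- a chosen arrow -/
noncomputable def arr (z : Ov x₀) : z.obj ⟶ x₀ := z.property.choose_spec.some

/-- the value -/
abbrev so (F : PM.{u} ((nerve D).op ⋙ A)) (z : Ov x₀) : Type u := Ten (rg A (arr z)) (F.obj ⟨0⟩)

/-- the canonical maps -/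
noncomputable def io (z : Ov x₀) (b : z.obj ⟶ x₀) : F.obj ⟨0⟩ →+ so F z :=
  (exists_rel hF (arr z) b (ten (rg A (arr z)) (F.obj ⟨0⟩)) (isBC_ten (rg A (arr z)) (F.obj ⟨0⟩)).semi).choose

theorem io_rel₀ (z : Ov x₀) (b : z.obj ⟶ x₀) : Rel F (arr z) b (ten (rg A (arr z)) (F.obj ⟨0⟩)) (io hF z b) :=
  (exists_rel hF (arr z) b (ten (rg A (arr z)) (F.obj ⟨0⟩)) (isBC_ten (rg A (arr z)) (F.obj ⟨0⟩)).semi).choose_spec

theorem io_rel (z : Ov x₀) (b c : z.obj ⟶ x₀) : Rel F b c (io hF z b) (io hF z c) :=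
  (io_rel₀ hF z b).symm.trans hF (io_rel₀ hF z c)

theorem io_bc (z : Ov x₀) (b : z.obj ⟶ x₀) : IsBC (rg A b) (io hF z b) :=
  (io_rel₀ hF z b).isBC hF (isBC_ten (rg A (arr z)) (F.obj ⟨0⟩))

theorem exists_sm {z' z : Ov x₀} (φ : z'.obj ⟶ z.obj) : ∃ m : so F z →+ so F z', Semi (rg A φ) m ∧
    ∀ (b : z.obj ⟶ x₀) (e : F.obj ⟨0⟩), m (io hF z b e) = io hF z' (φ ≫ b) e := by
  have h0 : Semi ((rg A φ).comp (rg A (arr z))) (io hF z' (φ ≫ arr z)) := by
    rw [← rg_comp]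
    exact (io_bc hF z' (φ ≫ arr z)).semi
  obtain ⟨m, h1, h2⟩ := (io_bc hF z (arr z)).exists_semi (rg A φ) (io hF z' (φ ≫ arr z)) h0
  refine ⟨m, h1, fun b => ?_⟩
  have h3 := (io_rel hF z (arr z) b).map φ m h1
  have e : m.comp (io hF z (arr z)) = io hF z' (φ ≫ arr z) := AddMonoidHom.ext h2
  rw [e] at h3
  have h4 := h3.unique hF (io_rel hF z' (φ ≫ arr z) (φ ≫ b))
  exact fun e => congr($h4 e)

/-- the transition maps -/
noncomputable def sm {z' z : Ov x₀} (φ : z'.obj ⟶ z.obj) : so F z →+ so F z' := (exists_sm hF φ).choose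

theorem sm_semi {z' z : Ov x₀} (φ : z'.obj ⟶ z.obj) : Semi (rg A φ) (sm hF φ) := (exists_sm hF φ).choose_spec.1

theorem sm_io {z' z : Ov x₀} (φ : z'.obj ⟶ z.obj) (b : z.obj ⟶ x₀) (e : F.obj ⟨0⟩) :
    sm hF φ (io hF z b e) = io hF z' (φ ≫ b) e := (exists_sm hF φ).choose_spec.2 b e

/-- the cartesian module on the objects over the chart -/
noncomputable def spm : PM.{u} ((K784.Tr.Over (Zc x₀)).ι.op ⋙ A) where
  obj z := so F z
  grp z := inferInstance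
  mod z := inferInstanceAs (Module (A.obj (op z.obj)) (so F z))
  map {x z} φ := sm hF φ.hom
  map_smul {x z} φ r m := sm_semi hF φ.hom r m
  map_id z m := by
    have h1 : Semi (rg A (𝟙 z.obj)) (sm hF (z' := z) (z := z) (𝟙 z.obj)) := sm_semi hF (𝟙 z.obj)
    have h2 : Semi (rg A (𝟙 z.obj)) (AddMonoidHom.id (so F z)) := fun r m => by
      rw [rg_id]
      rfl
    exact congr($((io_bc hF z (arr z)).semi_ext h1 h2 fun e => by
      rw [sm_io, Category.id_comp]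
      rfl) m)
  map_comp {y x z} ψ φ m := by
    have h1 : Semi (rg A (ψ.hom ≫ φ.hom)) (sm hF (z' := y) (z := z) (ψ.hom ≫ φ.hom)) := sm_semi hF _
    have h2 : Semi (rg A (ψ.hom ≫ φ.hom)) ((sm hF ψ.hom).comp (sm hF φ.hom)) := by
      rw [rg_comp]
      exact Semi.comp (sm_semi hF ψ.hom) (sm_semi hF φ.hom)
    exact congr($((io_bc hF z (arr z)).semi_ext h1 h2 fun e => by
      rw [sm_io, AddMonoidHom.comp_apply, sm_io, sm_io, Category.assoc]) m)

theorem spm_cart : (spm hF).Cart := fun x z φ => by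
  change IsBC (rg A φ.hom) (sm hF φ.hom)
  refine (io_bc hF z (arr z)).of_comp (sm_semi hF φ.hom) ?_
  have e : (sm hF φ.hom).comp (io hF z (arr z)) = io hF x (φ.hom ≫ arr z) := AddMonoidHom.ext fun e => sm_io hF _ _ e
  rw [e, ← rg_comp]
  exact io_bc hF x (φ.hom ≫ arr z)

/-- the comparison at the chart -/
theorem io_id_bijective (h : K784.Tr.Over (Zc x₀) x₀) : Function.Bijective (io hF ⟨x₀, h⟩ (𝟙 x₀)) := by
  have h1 := io_bc hF ⟨x₀, h⟩ (𝟙 x₀)
  have h2 : IsBC (rg A (𝟙 x₀)) (AddMonoidHom.id (F.obj ⟨0⟩)) := by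
    rw [rg_id]
    exact isBC_id
  obtain ⟨e, he⟩ := h2.exists_equiv h1
  have : (io hF ⟨x₀, h⟩ (𝟙 x₀) : F.obj ⟨0⟩ → so F ⟨x₀, h⟩) = e := funext fun x => (he x).symm
  rw [this]
  exact e.bijective

section Mor

variable {M : PM.{w} A} (q : ∀ a : NF, F.obj a →ₗ[((nerve D).op ⋙ A).obj (op a)] (PM.reindex (nerve D) M).obj a)
  (hq : ∀ ⦃a b : NF⦄ (φ : a ⟶ b) (e : F.obj b), q a (F.map φ e) = (PM.reindex (nerve D) M).map φ (q b e))

include hF hq in
theorem exists_tau (z : Ov x₀) : ∃ t : so F z →ₗ[A.obj (op z.obj)] M.obj z.obj,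
    ∀ (b : z.obj ⟶ x₀) (e : F.obj ⟨0⟩), t (io hF z b e) = M.map b (q ⟨0⟩ e) := by
  have hs : ∀ b : z.obj ⟶ x₀, Semi (rg A b) ((M.map b).comp (q ⟨0⟩).toAddMonoidHom) := fun b r m => by
    change M.map b (q ⟨0⟩ (r • m)) = rg A b r • M.map b (q ⟨0⟩ m)
    rw [(q ⟨0⟩).map_smul]
    exact M.map_smul b r _
  have hr : ∀ b c : z.obj ⟶ x₀, Rel F b c ((M.map b).comp (q ⟨0⟩).toAddMonoidHom)
      ((M.map c).comp (q ⟨0⟩).toAddMonoidHom) := fun b c => by
    refine ⟨(M.map (liftW D 1 (two b c))).comp (q ⟨1⟩).toAddMonoidHom, fun r m => ?_, fun e => ?_, fun e => ?_⟩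
    · change M.map _ (q ⟨1⟩ (r • m)) = rg A _ r • M.map _ (q ⟨1⟩ m)
      rw [(q ⟨1⟩).map_smul]
      exact M.map_smul _ r _
    · change M.map (liftW D 1 (two b c)) (q ⟨1⟩ (F.map (pt ⟨1⟩ 0) e)) = M.map b (q ⟨0⟩ e)
      rw [hq]
      refine (M.map_comp (liftW D 1 (two b c)) ((nerve D).map (pt ⟨1⟩ 0)) (q ⟨0⟩ e)).symm.trans ?_
      exact congrArg (fun t => M.map t (q ⟨0⟩ e)) (liftW_pt D 1 (two b c) 0)
    · change M.map (liftW D 1 (two b c)) (q ⟨1⟩ (F.map (pt ⟨1⟩ 1) e)) = M.map c (q ⟨0⟩ e)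
      rw [hq]
      refine (M.map_comp (liftW D 1 (two b c)) ((nerve D).map (pt ⟨1⟩ 1)) (q ⟨0⟩ e)).symm.trans ?_
      exact congrArg (fun t => M.map t (q ⟨0⟩ e)) (liftW_pt D 1 (two b c) 1)
  obtain ⟨t, ht, -⟩ := (io_bc hF z (arr z)).existsUnique_lift ((M.map (arr z)).comp (q ⟨0⟩).toAddMonoidHom) (hs (arr z))
  refine ⟨t, fun b => ?_⟩
  have h3 := (io_rel hF z (arr z) b).map (𝟙 z.obj) t.toAddMonoidHom (fun r m => by
    rw [rg_id]
    exact t.map_smul r m)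
  have e : t.toAddMonoidHom.comp (io hF z (arr z)) = (M.map (arr z)).comp (q ⟨0⟩).toAddMonoidHom :=
    AddMonoidHom.ext ht
  rw [e, Category.id_comp, Category.id_comp] at h3
  have h4 := h3.unique hF (hr (arr z) b)
  exact fun e => congr($h4 e)

include hq in
/-- the morphism on the objects over the chart -/
theorem exists_mor : ∃ t : ∀ z : Ov x₀, so F z →ₗ[A.obj (op z.obj)] M.obj z.obj,
    (∀ ⦃x z : Ov x₀⦄ (φ : x ⟶ z) (m : so F z), t x (sm hF φ.hom m) = M.map φ.hom (t z m)) ∧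
    ∀ (z : Ov x₀) (b : z.obj ⟶ x₀) (e : F.obj ⟨0⟩), t z (io hF z b e) = M.map b (q ⟨0⟩ e) := by
  choose t ht using exists_tau hF q hq
  refine ⟨t, fun x z φ m => ?_, ht⟩
  have h1 : Semi (rg A φ.hom) ((t x).toAddMonoidHom.comp (sm hF φ.hom)) := fun r m => by
    change t x (sm hF φ.hom (r • m)) = rg A φ.hom r • t x (sm hF φ.hom m)
    rw [sm_semi hF φ.hom]
    exact (t x).map_smul _ _
  have h2 : Semi (rg A φ.hom) ((M.map φ.hom).comp (t z).toAddMonoidHom) := fun r m => by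
    change M.map φ.hom (t z (r • m)) = rg A φ.hom r • M.map φ.hom (t z m)
    rw [(t z).map_smul]
    exact M.map_smul _ _ _
  exact congr($((io_bc hF z (arr z)).semi_ext h1 h2 fun e => by
    change t x (sm hF φ.hom (io hF z (arr z) e)) = M.map φ.hom (t z (io hF z (arr z) e))
    rw [sm_io, ht, ht]
    exact M.map_comp φ.hom (arr z) _) m)

end Mor

end Nv

end EF56
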