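import Groth.Agent.ResProp.EF.X56.Nerve
import Groth.Agent.StMod.K784.Sys

/-!
# From a cartesian module on the nerve to a cartesian module on the objects over the chart
-/

set_option autoImplicit false
set_option linter.dupNamespace false
set_option backward.isDefEq.respectTransparency false
set_option backward.isDefEq.respectTransparency.types false

open CategoryTheory Opposite

namespace EF56

open K784.BC K784.PM K741.RP

universe x₂ x₁ w v₁ u₁ u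

namespace Nv

variable {𝒞 : Type u₁} [Category.{v₁} 𝒞] {A : 𝒞ᵒᵖ ⥤ CommRingCat.{u}} {x₀ : 𝒞} (D : PD A x₀)

/-- two points -/
def two {z : 𝒞} (b c : z ⟶ x₀) : Fin 2 → (z ⟶ x₀) := fun i => if i = 0 then b else c

/-- three points -/
def three {z : 𝒞} (b c d : z ⟶ x₀) : Fin 3 → (z ⟶ x₀) := fun i => if i = 0 then b else if i = 1 then c else d

/-- an arrow of `NF` -/
def ar {m n : ℕ} (g : Fin (m + 1) → Fin (n + 1)) : (⟨n⟩ : NF) ⟶ ⟨m⟩ := g

theorem lift_ar {y : 𝒞} {m n : ℕ} (f : Fin (n + 1) → (y ⟶ x₀)) (g : Fin (m + 1) → Fin (n + 1)) :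
    liftW D n f ≫ (nerve D).map (ar g) = liftW D m (fun i => f (g i)) := extW D m fun i => by
  rw [Category.assoc]
  exact (congrArg (fun t => liftW D n f ≫ t) (nerve_map_pt D (ar g) i)).trans ((liftW_pt D n f (g i)).trans
    (liftW_pt D m (fun i => f (g i)) i).symm)

variable {D} (F : PM.{w} ((nerve D).op ⋙ A))

/-- the value on the chart -/
abbrev F0 : Type w := F.obj ⟨0⟩

instance modF (n : ℕ) : Module (A.obj (op (W D n))) (F.obj ⟨n⟩) := F.mod ⟨n⟩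

instance modF0 : Module (A.obj (op x₀)) (F.obj ⟨0⟩) := F.mod ⟨0⟩

/-- `ν` over `b` and `ν'` over `c` correspond -/
def Rel {z : 𝒞} {N : Type x₁} [AddCommGroup N] [Module (A.obj (op z)) N] (b c : z ⟶ x₀) (ν ν' : F.obj ⟨0⟩ →+ N) : Prop :=
  ∃ μ : F.obj ⟨1⟩ →+ N, Semi (rg A (liftW D 1 (two b c))) μ ∧ (∀ e, μ (F.map (pt ⟨1⟩ 0) e) = ν e) ∧
    ∀ e, μ (F.map (pt ⟨1⟩ 1) e) = ν' e

variable {F} (hF : F.Cart)

include hF in
theorem exists_fam {z : 𝒞} {N : Type x₁} [AddCommGroup N] [Module (A.obj (op z)) N] (n : ℕ)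
    (f : Fin (n + 1) → (z ⟶ x₀)) (i : Fin (n + 1)) (ν : F.obj ⟨0⟩ →+ N) (hν : Semi (rg A (f i)) ν) :
    ∃ μ : F.obj ⟨n⟩ →+ N, Semi (rg A (liftW D n f)) μ ∧ ∀ e, μ (F.map (pt ⟨n⟩ i) e) = ν e := by
  refine (hF (pt ⟨n⟩ i)).exists_semi (rg A (liftW D n f)) ν ?_
  have h : (rg A (liftW D n f)).comp (rg ((nerve D).op ⋙ A) (pt ⟨n⟩ i)) = rg A (f i) :=
    (rg_comp A (liftW D n f) (ptW D n i)).symm.trans (congrArg (fun t => rg A t) (liftW_pt D n f i))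
  rw [h]
  exact hν

include hF in
theorem fam_ext {z : 𝒞} {N : Type x₁} [AddCommGroup N] [Module (A.obj (op z)) N] (n : ℕ)
    (f : Fin (n + 1) → (z ⟶ x₀)) (i : Fin (n + 1)) {μ μ' : F.obj ⟨n⟩ →+ N} (h : Semi (rg A (liftW D n f)) μ)
    (h' : Semi (rg A (liftW D n f)) μ') (e : ∀ e, μ (F.map (pt ⟨n⟩ i) e) = μ' (F.map (pt ⟨n⟩ i) e)) : μ = μ' :=
  (hF (pt ⟨n⟩ i)).semi_ext h h' e

theorem fam_res {z : 𝒞} {N : Type x₁} [AddCommGroup N] [Module (A.obj (op z)) N] {m n : ℕ}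
    (f : Fin (n + 1) → (z ⟶ x₀)) {μ : F.obj ⟨n⟩ →+ N} (h : Semi (rg A (liftW D n f)) μ) (g : Fin (m + 1) → Fin (n + 1))
    (f' : Fin (m + 1) → (z ⟶ x₀)) (hf : ∀ i, f (g i) = f' i) :
    Semi (rg A (liftW D m f')) (μ.comp (F.map (ar g))) := by
  have h0 : (fun i => f (g i)) = f' := funext hf
  subst h0
  have h1 : Semi (rg ((nerve D).op ⋙ A) (ar g)) (F.map (ar g)) := F.map_smul (ar g)
  have h2 := Semi.comp h h1
  have h3 : (rg A (liftW D n f)).comp (rg ((nerve D).op ⋙ A) (ar g)) = rg A (liftW D m fun i => f (g i)) :=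
    (rg_comp A (liftW D n f) ((nerve D).map (ar g))).symm.trans (congrArg (fun t => rg A t) (lift_ar D f g))
  rw [h3] at h2
  exact h2

theorem map_pt_ar {m n : ℕ} (g : Fin (m + 1) → Fin (n + 1)) (i : Fin (m + 1)) (e : F.obj ⟨0⟩) :
    F.map (ar g) (F.map (pt ⟨m⟩ i) e) = F.map (pt ⟨n⟩ (g i)) e := (F.map_comp (ar g) (pt ⟨m⟩ i) e).symm

include hF in
theorem exists_rel {z : 𝒞} {N : Type x₁} [AddCommGroup N] [Module (A.obj (op z)) N] (b c : z ⟶ x₀) (ν : F.obj ⟨0⟩ →+ N)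
    (hν : Semi (rg A b) ν) : ∃ ν' : F.obj ⟨0⟩ →+ N, Rel F b c ν ν' := by
  obtain ⟨μ, h1, h2⟩ := exists_fam hF 1 (two b c) 0 ν hν
  exact ⟨μ.comp (F.map (pt ⟨1⟩ 1)), μ, h1, h2, fun _ => rfl⟩

theorem Rel.semi_right {z : 𝒞} {N : Type x₁} [AddCommGroup N] [Module (A.obj (op z)) N] {b c : z ⟶ x₀}
    {ν ν' : F.obj ⟨0⟩ →+ N} (h : Rel F b c ν ν') : Semi (rg A c) ν' := by
  obtain ⟨μ, h1, h2, h3⟩ := h
  have h4 := fam_res (D := D) (F := F) (two b c) h1 (m := 0) (fun _ => 1) (fun _ => c) (fun _ => rfl)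
  intro r m
  rw [← h3, ← h3]
  exact h4 r m

theorem Rel.semi_left {z : 𝒞} {N : Type x₁} [AddCommGroup N] [Module (A.obj (op z)) N] {b c : z ⟶ x₀}
    {ν ν' : F.obj ⟨0⟩ →+ N} (h : Rel F b c ν ν') : Semi (rg A b) ν := by
  obtain ⟨μ, h1, h2, h3⟩ := h
  have h4 := fam_res (D := D) (F := F) (two b c) h1 (m := 0) (fun _ => 0) (fun _ => b) (fun _ => rfl)
  intro r m
  rw [← h2, ← h2]
  exact h4 r m

theorem Rel.symm {z : 𝒞} {N : Type x₁} [AddCommGroup N] [Module (A.obj (op z)) N] {b c : z ⟶ x₀}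
    {ν ν' : F.obj ⟨0⟩ →+ N} (h : Rel F b c ν ν') : Rel F c b ν' ν := by
  obtain ⟨μ, h1, h2, h3⟩ := h
  refine ⟨μ.comp (F.map (ar (m := 1) (n := 1) fun i => if i = 0 then 1 else 0)),
    fam_res (D := D) (F := F) (two b c) h1 (m := 1) _ (two c b) (fun i => ?_), fun e => ?_, fun e => ?_⟩
  · fin_cases i <;> rfl
  · rw [AddMonoidHom.comp_apply, map_pt_ar, ← h3]
    rfl
  · rw [AddMonoidHom.comp_apply, map_pt_ar, ← h2]
    rfl

include hF in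
theorem Rel.trans {z : 𝒞} {N : Type x₁} [AddCommGroup N] [Module (A.obj (op z)) N] {b c d : z ⟶ x₀}
    {ν ν' ν'' : F.obj ⟨0⟩ →+ N} (h : Rel F b c ν ν') (h' : Rel F c d ν' ν'') : Rel F b d ν ν'' := by
  have hν := h.semi_left
  obtain ⟨μ, h1, h2, h3⟩ := h
  obtain ⟨μ', h1', h2', h3'⟩ := h'
  obtain ⟨ω, o1, o2⟩ := exists_fam hF 2 (three b c d) 0 ν hν
  let g01 : Fin 2 → Fin 3 := fun i => if i = 0 then 0 else 1
  let g12 : Fin 2 → Fin 3 := fun i => if i = 0 then 1 else 2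
  let g02 : Fin 2 → Fin 3 := fun i => if i = 0 then 0 else 2
  have e1 : ω.comp (F.map (ar g01)) = μ :=
    fam_ext hF 1 (two b c) 0 (fam_res (D := D) (F := F) (three b c d) o1 (m := 1) g01 (two b c)
      (fun i => by fin_cases i <;> rfl)) h1 fun e => by
        rw [AddMonoidHom.comp_apply, map_pt_ar, h2, ← o2]
        rfl
  have e2 : ∀ e, ω (F.map (pt ⟨2⟩ 1) e) = ν' e := fun e => by
    rw [← h3, ← e1, AddMonoidHom.comp_apply, map_pt_ar]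
    rfl
  have e3 : ω.comp (F.map (ar g12)) = μ' :=
    fam_ext hF 1 (two c d) 0 (fam_res (D := D) (F := F) (three b c d) o1 (m := 1) g12 (two c d)
      (fun i => by fin_cases i <;> rfl)) h1' fun e => by
        rw [AddMonoidHom.comp_apply, map_pt_ar, h2', ← e2]
        rfl
  refine ⟨ω.comp (F.map (ar g02)), fam_res (D := D) (F := F) (three b c d) o1 (m := 1) g02 (two b d)
      (fun i => by fin_cases i <;> rfl), fun e => ?_, fun e => ?_⟩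
  · rw [AddMonoidHom.comp_apply, map_pt_ar, ← o2]
    rfl
  · rw [← h3', ← e3, AddMonoidHom.comp_apply, AddMonoidHom.comp_apply, map_pt_ar, map_pt_ar]
    rfl

include hF in
theorem Rel.unique {z : 𝒞} {N : Type x₁} [AddCommGroup N] [Module (A.obj (op z)) N] {b c : z ⟶ x₀}
    {ν ν' ν'' : F.obj ⟨0⟩ →+ N} (h : Rel F b c ν ν') (h' : Rel F b c ν ν'') : ν' = ν'' := by
  obtain ⟨μ, h1, h2, h3⟩ := h
  obtain ⟨μ', h1', h2', h3'⟩ := h'
  have e : μ = μ' := fam_ext hF 1 (two b c) 0 h1 h1' fun e => by rw [h2, h2']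
  ext x
  rw [← h3, ← h3', e]

include hF in
theorem Rel.isBC {z : 𝒞} {N : Type x₁} [AddCommGroup N] [Module (A.obj (op z)) N] {b c : z ⟶ x₀}
    {ν ν' : F.obj ⟨0⟩ →+ N} (h : Rel F b c ν ν') (hν : IsBC (rg A b) ν) : IsBC (rg A c) ν' := by
  obtain ⟨μ, h1, h2, h3⟩ := h
  have r0 : (rg A (liftW D 1 (two b c))).comp (rg ((nerve D).op ⋙ A) (pt ⟨1⟩ 0)) = rg A b :=
    (rg_comp A (liftW D 1 (two b c)) (ptW D 1 0)).symm.trans (congrArg (fun t => rg A t) (liftW_pt D 1 (two b c) 0))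
  have r1 : (rg A (liftW D 1 (two b c))).comp (rg ((nerve D).op ⋙ A) (pt ⟨1⟩ 1)) = rg A c :=
    (rg_comp A (liftW D 1 (two b c)) (ptW D 1 1)).symm.trans (congrArg (fun t => rg A t) (liftW_pt D 1 (two b c) 1))
  have e0 : μ.comp (F.map (pt ⟨1⟩ 0)) = ν := AddMonoidHom.ext h2
  have e1 : μ.comp (F.map (pt ⟨1⟩ 1)) = ν' := AddMonoidHom.ext h3
  have hμ : IsBC (rg A (liftW D 1 (two b c))) μ := (hF (pt ⟨1⟩ 0)).of_comp h1 (by rw [r0, e0]; exact hν)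
  have := (hF (pt ⟨1⟩ 1)).comp hμ
  rw [r1, e1] at this
  exact this

theorem two_comp {z' z : 𝒞} (φ : z' ⟶ z) (b c : z ⟶ x₀) : φ ≫ liftW D 1 (two b c) = liftW D 1 (two (φ ≫ b) (φ ≫ c)) :=
  extW D 1 fun i => by
    rw [Category.assoc, liftW_pt, liftW_pt]
    fin_cases i <;> rfl

theorem Rel.map {z' z : 𝒞} (φ : z' ⟶ z) {N : Type x₁} [AddCommGroup N] [Module (A.obj (op z)) N] {N' : Type x₂}
    [AddCommGroup N'] [Module (A.obj (op z')) N'] {b c : z ⟶ x₀} {ν ν' : F.obj ⟨0⟩ →+ N} (h : Rel F b c ν ν')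
    (ψ : N →+ N') (hψ : Semi (rg A φ) ψ) : Rel F (φ ≫ b) (φ ≫ c) (ψ.comp ν) (ψ.comp ν') := by
  obtain ⟨μ, h1, h2, h3⟩ := h
  refine ⟨ψ.comp μ, ?_, fun e => congrArg ψ (h2 e), fun e => congrArg ψ (h3 e)⟩
  have := Semi.comp hψ h1
  rwa [← rg_comp, two_comp] at this

end Nv

end EF56
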